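import Mathlib
import Groth.Agent.FlatDvrVC5.Affine

/-!
# Transport of flatness at a point along flat maps of algebras; base change of presented modules
-/

universe u
set_option autoImplicit false

open TensorProduct

namespace Groth.Agent.FlatValCrit

open Groth.Agent.FlatDvrVC5

/-- Flatness away from a prime passes to a flat algebra above it. -/
theorem flatAway_tensor {V U T' Y : Type u} [CommRing V] [CommRing U] [CommRing T'] [Algebra V U] [Algebra U T']
    [Algebra V T'] [IsScalarTower V U T'] [Module.Flat U T'] [AddCommGroup Y] [Module U Y] [Module V Y]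
    [IsScalarTower V U Y] (Q' : Ideal U) (P : Ideal T') [P.IsPrime] (hP : P.comap (algebraMap U T') = Q')
    (h : FlatAway V Q' Y) : FlatAway V P (T' ⊗[U] Y) := by
  intro N N' _ _ _ _ g hg z hz
  let gY : Y ⊗[V] N →ₗ[U] Y ⊗[V] N' := AlgebraTensorModule.lTensor U Y g
  let e := AlgebraTensorModule.assoc V U T' T' Y N
  let e' := AlgebraTensorModule.assoc V U T' T' Y N'
  have hc : ∀ w, e' (g.lTensor (T' ⊗[U] Y) w) = gY.lTensor T' (e w) := by
    intro w
    induction w using TensorProduct.induction_on with
    | zero => simp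
    | add a b ha hb => simp only [map_add, ha, hb]
    | tmul x m =>
      induction x using TensorProduct.induction_on with
      | zero => simp
      | add a b ha hb => simp only [TensorProduct.add_tmul, map_add, ha, hb]
      | tmul c y => simp [e, e', gY]
  have hex : Function.Exact (LinearMap.ker gY).subtype gY := LinearMap.exact_subtype_ker_map gY
  have h1 : gY.lTensor T' (e z) = 0 := by rw [← hc, hz, map_zero]
  obtain ⟨k, hk⟩ := (Module.Flat.lTensor_exact T' hex (e z)).mp h1
  suffices hs : ∃ s ∉ P, s • k = 0 by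
    obtain ⟨s, hs, hsk⟩ := hs
    refine ⟨s, hs, e.injective ?_⟩
    rw [map_smul, map_zero, ← hk]
    have h2 : (AlgebraTensorModule.lTensor T' T' (LinearMap.ker gY).subtype) (s • k) =
        s • (AlgebraTensorModule.lTensor T' T' (LinearMap.ker gY).subtype) k := map_smul _ _ _
    rw [hsk, map_zero] at h2
    exact h2.symm
  clear hk
  induction k using TensorProduct.induction_on with
  | zero => exact ⟨1, fun h1 => ‹P.IsPrime›.ne_top ((Ideal.eq_top_iff_one P).2 h1), smul_zero _⟩
  | tmul c y =>
    obtain ⟨t, ht, hty⟩ := h g hg (y : Y ⊗[V] N) y.2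
    refine ⟨algebraMap U T' t, fun hmem => ht (hP.le hmem), ?_⟩
    rw [algebraMap_smul, ← TensorProduct.tmul_smul, show t • y = 0 from Subtype.ext hty, TensorProduct.tmul_zero]
  | add a b ha hb =>
    obtain ⟨s, hs, hsa⟩ := ha
    obtain ⟨t, ht, htb⟩ := hb
    exact ⟨s * t, ‹P.IsPrime›.mul_notMem hs ht, by
      rw [smul_add, mul_smul, mul_smul, htb, smul_comm, hsa, smul_zero, smul_zero, add_zero]⟩

/-- Flatness away from a prime is invariant under isomorphisms. -/
theorem flatAway_congr {A T M M' : Type u} [CommRing A] [CommRing T] [Algebra A T] [AddCommGroup M] [Module T M]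
    [Module A M] [IsScalarTower A T M] [AddCommGroup M'] [Module T M'] [Module A M'] [IsScalarTower A T M']
    (e : M ≃ₗ[T] M') (P : Ideal T) (h : FlatAway A P M) : FlatAway A P M' := by
  intro N N' _ _ _ _ g hg z hz
  let eN := AlgebraTensorModule.congr e (LinearEquiv.refl A N)
  have hc : ∀ w, g.lTensor M' (eN w) = AlgebraTensorModule.congr e (LinearEquiv.refl A N') (g.lTensor M w) := by
    intro w
    induction w using TensorProduct.induction_on with
    | zero => simp
    | tmul m x => simp [eN]
    | add a b ha hb => simp only [map_add, ha, hb]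
  obtain ⟨w, rfl⟩ := eN.surjective z
  rw [hc, LinearEquiv.map_eq_zero_iff] at hz
  obtain ⟨s, hs, hsw⟩ := h g hg w hz
  exact ⟨s, hs, by rw [← map_smul, hsw, map_zero]⟩

/-- Base change of a module given by generators and relations. -/
theorem nonempty_baseChange_presented (U T' : Type u) [CommRing U] [CommRing T'] [Algebra U T'] {a : ℕ}
    (G : Set (Fin a → U)) :
    Nonempty (T' ⊗[U] ((Fin a → U) ⧸ Submodule.span U G) ≃ₗ[T']
      (Fin a → T') ⧸ Submodule.span T' ((fun v i => algebraMap U T' (v i)) '' G)) := by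
  classical
  set L := Submodule.span U G
  set L' := Submodule.span T' ((fun v i => algebraMap U T' (v i)) '' G) with hL'
  let j : (Fin a → U) →ₗ[U] (Fin a → T') := (Algebra.linearMap U T').compLeft (Fin a)
  have hj : ∀ v, j v = fun i => algebraMap U T' (v i) := fun v => rfl
  let f₀ : (Fin a → U) ⧸ L →ₗ[U] (Fin a → T') ⧸ L' :=
    L.liftQ ((L'.mkQ.restrictScalars U) ∘ₗ j) (Submodule.span_le.mpr fun v hv =>
      (Submodule.Quotient.mk_eq_zero L').mpr (Submodule.subset_span ⟨v, hv, rfl⟩))
  let f := f₀.liftBaseChange T'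
  let b₀ : (Fin a → T') →ₗ[T'] T' ⊗[U] ((Fin a → U) ⧸ L) :=
    (Pi.basisFun T' (Fin a)).constr T' fun i => 1 ⊗ₜ[U] L.mkQ (Pi.single i 1)
  have hb₀ : ∀ v, b₀ (j v) = 1 ⊗ₜ[U] L.mkQ v := by
    intro v
    have h1 : b₀.restrictScalars U ∘ₗ j = (TensorProduct.mk U T' _ 1) ∘ₗ L.mkQ := by
      refine (Pi.basisFun U (Fin a)).ext fun i => ?_
      have h2 : j (Pi.single i 1) = Pi.single i 1 := by
        ext k
        by_cases h : k = i
        · subst h; simp [hj]
        · simp [hj, h]
      simp only [Pi.basisFun_apply, LinearMap.comp_apply, LinearMap.restrictScalars_apply, h2, TensorProduct.mk_apply]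
      rw [← Pi.basisFun_apply T' (Fin a) i]
      exact (Pi.basisFun T' (Fin a)).constr_basis T' _ i
    exact LinearMap.congr_fun h1 v
  have hb : L' ≤ LinearMap.ker b₀ := by
    rw [hL', Submodule.span_le]
    rintro _ ⟨v, hv, rfl⟩
    rw [SetLike.mem_coe, LinearMap.mem_ker]
    show b₀ (j v) = 0
    rw [hb₀, Submodule.mkQ_apply,
      (Submodule.Quotient.mk_eq_zero L).mpr (Submodule.subset_span hv), TensorProduct.tmul_zero]
  refine ⟨LinearEquiv.ofLinearMap f (L'.liftQ b₀ hb) ?_ ?_⟩
  · refine Submodule.linearMap_qext _ ((Pi.basisFun T' (Fin a)).ext fun i => ?_)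
    simp [f, f₀, b₀, hj]
    congr 1
    ext k
    by_cases h : k = i
    · subst h; simp
    · simp [h]
  · refine TensorProduct.AlgebraTensorModule.ext fun c q => ?_
    obtain ⟨v, rfl⟩ := Submodule.mkQ_surjective L q
    simp only [LinearMap.comp_apply, LinearMap.id_apply, f, LinearMap.liftBaseChange_tmul, map_smul]
    show c • b₀ (j v) = _
    rw [hb₀, TensorProduct.smul_tmul', smul_eq_mul, mul_one]

end Groth.Agent.FlatValCrit
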