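import Mathlib
import Groth.Agent.FlatValCrit.Transfer
import Groth.Agent.FlatModel.Local

/-!
# The valuative criterion of flatness at a point, for presented modules
-/

universe u
set_option autoImplicit false

open TensorProduct

namespace Groth.Agent.FlatValCrit

open MvPolynomial Groth.Agent.FlatModel

variable {a n : ℕ} {R₀ : Type u} [CommRing R₀] (K₀ : Submodule (MvPolynomial (Fin n) R₀) (V a n R₀))

theorem ptFlat_of_dvr {R₁ : Type u} [CommRing R₁] [_root_.IsReduced R₁] [IsNoetherianRing R₁] [Algebra R₀ R₁]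
    (Q : Ideal (MvPolynomial (Fin n) R₁)) [Q.IsPrime]
    (h : ∀ (W : Type u) [CommRing W] [IsDomain W] [IsDiscreteValuationRing W] [Algebra R₀ W] (ψ : R₁ →ₐ[R₀] W)
      (Q' : Ideal (MvPolynomial (Fin n) W)) [Q'.IsPrime],
        Q'.comap (MvPolynomial.map ψ.toRingHom) = Q → Q'.comap C = IsLocalRing.maximalIdeal W →
          PtFlat K₀ W Q'.primeCompl) :
    PtFlat K₀ R₁ Q.primeCompl := by
  classical
  let B := MvPolynomial (Fin n) R₁
  let M := V a n R₁ ⧸ KK K₀ R₁
  let f := LocalizedModule.mkLinearMap Q.primeCompl M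
  rw [ptFlat_iff K₀ Q.primeCompl (KK K₀ R₁).mkQ (Submodule.mkQ_surjective _) (Submodule.ker_mkQ _),
    ← flat_localized_iff Q.primeCompl f]
  let q := Q.comap (algebraMap R₁ B)
  haveI : q.IsPrime := Ideal.IsPrime.comap _
  haveI : Q.LiesOver q := ⟨rfl⟩
  let Aq := Localization.AtPrime q
  let S := Localization.AtPrime Q
  let MQ := LocalizedModule Q.primeCompl M
  letI : Algebra Aq S := Localization.AtPrime.algebraOfLiesOver q Q
  letI : Module Aq MQ := Module.compHom MQ (algebraMap Aq S)
  haveI : IsScalarTower Aq S MQ := IsScalarTower.of_algebraMap_smul fun _ _ => rfl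
  haveI : IsScalarTower R₁ Aq MQ := IsScalarTower.of_algebraMap_smul fun r y => by
    show algebraMap Aq S (algebraMap R₁ Aq r) • y = r • y
    rw [← IsScalarTower.algebraMap_apply, IsScalarTower.algebraMap_apply R₁ B S, algebraMap_smul, algebraMap_smul]
  haveI : Module.Finite S MQ := Module.Finite.of_isLocalizedModule Q.primeCompl f
  haveI : IsLocalHom (algebraMap Aq S) := Localization.isLocalHom_localRingHom q Q (algebraMap R₁ B) rfl
  haveI : Algebra.EssFiniteType R₁ S := Algebra.EssFiniteType.comp R₁ B S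
  haveI : Algebra.EssFiniteType Aq S := Algebra.EssFiniteType.of_comp R₁ Aq S
  haveI : IsNoetherianRing Aq := IsLocalization.isNoetherianRing q.primeCompl Aq inferInstance
  haveI : Module.Flat R₁ Aq := IsLocalization.flat Aq q.primeCompl
  suffices Module.Flat Aq MQ from Module.Flat.trans R₁ Aq MQ
  refine FlatDvrVC5.flat_of_dvr (S := S) MQ ?_
  intro W _ _ _ _ hW P hP hPW hPS
  letI : Algebra R₁ W := ((algebraMap Aq W).comp (algebraMap R₁ Aq)).toAlgebra
  haveI : IsScalarTower R₁ Aq W := IsScalarTower.of_algebraMap_eq fun _ => rfl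
  letI : Algebra R₀ W := ((algebraMap R₁ W).comp (algebraMap R₀ R₁)).toAlgebra
  let ψ : R₁ →ₐ[R₀] W := { algebraMap R₁ W with commutes' := fun _ => rfl }
  let T := W ⊗[Aq] S
  let ω : MvPolynomial (Fin n) W →ₐ[W] T :=
    MvPolynomial.aeval fun i => (1 : W) ⊗ₜ[Aq] algebraMap B S (X i)
  letI : Algebra (MvPolynomial (Fin n) W) T := ω.toRingHom.toAlgebra
  haveI : IsScalarTower W (MvPolynomial (Fin n) W) T := IsScalarTower.of_algebraMap_eq fun c => (ω.commutes c).symm
  haveI : Module.Flat (MvPolynomial (Fin n) W) T := by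
    let e₁ : W ⊗[R₁] B ≃ₐ[W] MvPolynomial (Fin n) W := MvPolynomial.algebraTensorAlgEquiv R₁ W
    let m : W ⊗[R₁] B →ₐ[W] W ⊗[R₁] S := Algebra.TensorProduct.map (AlgHom.id W W) (IsScalarTower.toAlgHom R₁ B S)
    haveI := IsLocalization.tensorProduct_compatibleSMul q.primeCompl Aq W S
    let e₂ : W ⊗[R₁] S ≃ₐ[W] W ⊗[Aq] S := (Algebra.TensorProduct.equivOfCompatibleSMul R₁ Aq W W S).symm
    have hω : ω = (e₂.toAlgHom.comp m).comp e₁.symm.toAlgHom := by
      refine MvPolynomial.algHom_ext fun i => ?_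
      have h1 : e₁.symm (X i) = 1 ⊗ₜ[R₁] X i := MvPolynomial.algebraTensorAlgEquiv_symm_X R₁ W i
      show ω (X i) = e₂ (m (e₁.symm (X i)))
      rw [h1]
      simp [ω, m, e₂]
      rfl
    have hflat : ω.toRingHom.Flat := by
      rw [hω]
      refine RingHom.Flat.comp (.of_bijective e₁.symm.bijective) (RingHom.Flat.comp ?_ (.of_bijective e₂.bijective))
      refine RingHom.Flat.tensorProductMap (.of_bijective Function.bijective_id) ?_
      show (algebraMap B S).Flat
      rw [RingHom.flat_algebraMap_iff]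
      infer_instance
    exact hflat
  let Q' := P.comap (algebraMap (MvPolynomial (Fin n) W) T)
  haveI : Q'.IsPrime := Ideal.IsPrime.comap _
  have hθ : ω.toRingHom.comp (MvPolynomial.map ψ.toRingHom) =
      (Algebra.TensorProduct.includeRight : S →ₐ[Aq] T).toRingHom.comp (algebraMap B S) := by
    refine MvPolynomial.ringHom_ext (fun r => ?_) (fun i => ?_)
    · show ω (MvPolynomial.map ψ.toRingHom (C r)) = (1 : W) ⊗ₜ[Aq] algebraMap B S (C r)
      rw [MvPolynomial.map_C, ← MvPolynomial.algebraMap_eq, AlgHom.commutes, Algebra.TensorProduct.algebraMap_apply]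
      show algebraMap R₁ W r ⊗ₜ[Aq] (1 : S) = _
      rw [← MvPolynomial.algebraMap_eq, ← IsScalarTower.algebraMap_apply R₁ B S,
        IsScalarTower.algebraMap_apply R₁ Aq W, IsScalarTower.algebraMap_apply R₁ Aq S,
        Algebra.algebraMap_eq_smul_one (R := Aq) (A := W), Algebra.algebraMap_eq_smul_one (R := Aq) (A := S),
        TensorProduct.smul_tmul]
    · show ω (MvPolynomial.map ψ.toRingHom (X i)) = (1 : W) ⊗ₜ[Aq] algebraMap B S (X i)
      rw [MvPolynomial.map_X]
      simp [ω]
  have hQ'Q : Q'.comap (MvPolynomial.map ψ.toRingHom) = Q := by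
    rw [Ideal.comap_comap, show (algebraMap (MvPolynomial (Fin n) W) T).comp (MvPolynomial.map ψ.toRingHom) =
        ω.toRingHom.comp (MvPolynomial.map ψ.toRingHom) from rfl, hθ, ← Ideal.comap_comap, hPS]
    exact Localization.AtPrime.under_maximalIdeal
  have hQ'C : Q'.comap C = IsLocalRing.maximalIdeal W := by
    rw [Ideal.comap_comap, show (algebraMap (MvPolynomial (Fin n) W) T).comp C = Algebra.TensorProduct.includeLeftRingHom from
      RingHom.ext fun c => ω.commutes c]
    exact hPW
  -- flatness of the presented module over `W`, at `Q'`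
  let Y := V a n W ⧸ KK K₀ W
  have hY : FlatDvrVC5.FlatAway W Q' Y := by
    rw [FlatDvrVC5.flatAway_iff, flat_localized_iff Q'.primeCompl (LocalizedModule.mkLinearMap Q'.primeCompl Y),
      ← ptFlat_iff K₀ Q'.primeCompl (KK K₀ W).mkQ (Submodule.mkQ_surjective _) (Submodule.ker_mkQ _)]
    exact h W ψ Q' hQ'Q hQ'C
  have h1 := flatAway_tensor (T' := T) Q' P rfl hY
  letI : Algebra B T := ((Algebra.TensorProduct.includeRight : S →ₐ[Aq] T).toRingHom.comp (algebraMap B S)).toAlgebra
  letI : Algebra S T := Algebra.TensorProduct.rightAlgebra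
  haveI : IsScalarTower B S T := IsScalarTower.of_algebraMap_eq fun _ => rfl
  obtain ⟨e₁⟩ := nonempty_baseChange_presented (MvPolynomial (Fin n) W) T (mapV (algebraMap R₀ W) '' (K₀ : Set (V a n R₀)))
  obtain ⟨e₂⟩ := nonempty_baseChange_presented B T (mapV (algebraMap R₀ R₁) '' (K₀ : Set (V a n R₀)))
  have hsp : (fun v i => algebraMap (MvPolynomial (Fin n) W) T (v i)) '' (mapV (algebraMap R₀ W) '' (K₀ : Set (V a n R₀))) =
      (fun v i => algebraMap B T (v i)) '' (mapV (algebraMap R₀ R₁) '' (K₀ : Set (V a n R₀))) := by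
    rw [Set.image_image, Set.image_image]
    refine Set.image_congr fun v _ => funext fun i => ?_
    show ω (MvPolynomial.map (ψ.toRingHom.comp (algebraMap R₀ R₁)) (v i)) = _
    rw [← MvPolynomial.map_map]
    exact RingHom.congr_fun hθ _
  have hbc : IsBaseChange S f := (isLocalizedModule_iff_isBaseChange Q.primeCompl S f).mp inferInstance
  let eM : T ⊗[S] MQ ≃ₗ[T] T ⊗[B] M :=
    (AlgebraTensorModule.congr (LinearEquiv.refl T T) hbc.equiv.symm).trans
      (AlgebraTensorModule.cancelBaseChange B S T T M)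
  exact flatAway_congr
    ((e₁.trans ((Submodule.quotEquivOfEq _ _ (congrArg (Submodule.span T) hsp)).trans e₂.symm)).trans eM.symm) P h1

end Groth.Agent.FlatValCrit
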