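import Mathlib
import Groth.Agent.FlatModel.Local

/-!
# Transportable witnesses of flatness at a point

Flatness at a point of a finitely presented module is witnessed by finitely many equations, which
can be transported along ring maps into Noetherian rings.
-/

universe u
set_option autoImplicit false

namespace Groth.Agent.FlatValCrit

open MvPolynomial Groth.Agent.FlatModel

variable {a n : ℕ} {R₀ : Type u} [CommRing R₀] (K₀ : Submodule (MvPolynomial (Fin n) R₀) (V a n R₀))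

theorem exists_witness [IsNoetherianRing R₀] {R : Type u} [CommRing R] [Algebra R₀ R]
    (Q : Ideal (MvPolynomial (Fin n) R)) [Q.IsPrime] (h : PtFlat K₀ R Q.primeCompl) :
    ∃ R₁ : Subalgebra R₀ R, R₁.FG ∧ ∃ g₁ : MvPolynomial (Fin n) R₁,
      MvPolynomial.map R₁.val.toRingHom g₁ ∉ Q ∧
        ∀ (R' : Type u) [CommRing R'] [IsNoetherianRing R'] [Algebra R₀ R'] (ψ : R₁ →ₐ[R₀] R'),
          PtFlat K₀ R' (Submonoid.powers (MvPolynomial.map ψ.toRingHom g₁)) := by
  classical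
  obtain ⟨S, hS, hcover⟩ := exists_cover K₀ ⊥
  choose G hG using fun p : Ideal R₀ => (IsNoetherian.noetherian (K₀ ⊓ CJ a n p) : (K₀ ⊓ CJ a n p).FG)
  let T : Ideal R₀ → (R₁ : Subalgebra R₀ R) → MvPolynomial (Fin n) R₁ → Set (V a n R₀) := fun p R₁ g =>
    {t | g • mapV (algebraMap R₀ R₁) t ∈
      ((((p.map (algebraMap R₀ R₁)).map C : Ideal (MvPolynomial (Fin n) R₁))) • KK K₀ R₁)}
  have hmono : ∀ p (R₁ R₂ : Subalgebra R₀ R) (hle : R₁ ≤ R₂) (g : MvPolynomial (Fin n) R₁)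
      (g' : MvPolynomial (Fin n) R₂), T p R₁ g ⊆ T p R₂ (g' * MvPolynomial.map (Subalgebra.inclusion hle).toRingHom g) := by
    intro p R₁ R₂ hle g g' t ht
    simp only [T, Set.mem_setOf_eq, map_smul_KK_eq_span] at ht ⊢
    have := span_mono_subalgebra hle ht
    rw [mapV_smul, mapV_algebraMap] at this
    rw [mul_smul]
    exact Submodule.smul_mem _ _ this
  have hone : ∀ p, ∀ t ∈ K₀, t ∈ CJ a n p → ∃ R₁ : Subalgebra R₀ R, R₁.FG ∧ ∃ g : MvPolynomial (Fin n) R₁,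
      MvPolynomial.map R₁.val.toRingHom g ∉ Q ∧ t ∈ T p R₁ g := by
    intro p t ht htp
    have h1 : mapV (algebraMap R₀ R) t ∈ CJ a n (p.map (algebraMap R₀ R)) := mem_CJ.2 fun i =>
      MvPolynomial.mem_map_C_iff.2 fun d => by
        rw [mapV_apply, MvPolynomial.coeff_map]
        exact Ideal.mem_map_of_mem _ (MvPolynomial.mem_map_C_iff.1 (mem_CJ.1 htp i) d)
    obtain ⟨s, hs, h2⟩ := h _ _ (mapL_mem_KK K₀ ht) h1
    rw [map_smul_KK_eq_span] at h2
    obtain ⟨R₁, hR₁, x₁, hx₁, hx₁t⟩ := exists_fg_span_descent h2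
    let R₂ := R₁ ⊔ Algebra.adjoin R₀ (s.coeffs : Set R)
    obtain ⟨g, hg⟩ : s ∈ Set.range (MvPolynomial.map R₂.val.toRingHom) :=
      MvPolynomial.mem_range_map_iff_coeffs_subset.2 fun c hc =>
        ⟨⟨c, (le_sup_right : _ ≤ R₂) (Algebra.subset_adjoin hc)⟩, rfl⟩
    refine ⟨R₂, hR₁.sup (Subalgebra.fg_adjoin_finset _), g, hg.symm ▸ hs, ?_⟩
    have hx₂ := span_mono_subalgebra (le_sup_left : R₁ ≤ R₂) hx₁
    have : mapV (Subalgebra.inclusion le_sup_left).toRingHom x₁ = g • mapV (algebraMap R₀ R₂) t :=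
      mapV_injective (g := R₂.val.toRingHom) Subtype.val_injective (by
        rw [mapV_val_inclusion, hx₁t, mapV_smul, hg, mapV_algebraMap]
        rfl)
    simp only [T, Set.mem_setOf_eq, map_smul_KK_eq_span]
    exact this ▸ hx₂
  have hfin : ∀ W : Finset (Ideal R₀ × V a n R₀), (∀ w ∈ W, w.2 ∈ K₀ ⊓ CJ a n w.1) →
      ∃ R₁ : Subalgebra R₀ R, R₁.FG ∧ ∃ g : MvPolynomial (Fin n) R₁,
        MvPolynomial.map R₁.val.toRingHom g ∉ Q ∧ ∀ w ∈ W, w.2 ∈ T w.1 R₁ g := by
    intro W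
    induction W using Finset.induction with
    | empty =>
      exact fun _ => ⟨⊥, Subalgebra.fg_bot, 1, by
        rw [map_one]; exact (Ideal.ne_top_iff_one Q).1 (Ideal.IsPrime.ne_top ‹_›), by simp⟩
    | insert w W _ ih =>
      intro hW
      obtain ⟨R₁, h₁, g₁, hg₁, h₁'⟩ := ih fun z hz => hW z (Finset.mem_insert_of_mem hz)
      obtain ⟨R₂, h₂, g₂, hg₂, h₂'⟩ := hone w.1 w.2 (hW w (Finset.mem_insert_self _ _)).1 (hW w (Finset.mem_insert_self _ _)).2
      let i₁ := MvPolynomial.map (σ := Fin n) (Subalgebra.inclusion (le_sup_left : R₁ ≤ R₁ ⊔ R₂)).toRingHom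
      let i₂ := MvPolynomial.map (σ := Fin n) (Subalgebra.inclusion (le_sup_right : R₂ ≤ R₁ ⊔ R₂)).toRingHom
      refine ⟨R₁ ⊔ R₂, h₁.sup h₂, i₁ g₁ * i₂ g₂, ?_, fun z hz => ?_⟩
      · rw [map_mul]
        refine Ideal.IsPrime.mul_notMem ‹_› ?_ ?_
        · simp only [i₁, MvPolynomial.map_map]; exact hg₁
        · simp only [i₂, MvPolynomial.map_map]; exact hg₂
      rcases Finset.mem_insert.1 hz with rfl | hz
      · exact hmono _ _ _ le_sup_right g₂ (i₁ g₁) h₂'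
      · rw [mul_comm]
        exact hmono _ _ _ le_sup_left g₁ (i₂ g₂) (h₁' z hz)
  obtain ⟨R₁, hR₁, g₁, hg₁, hW⟩ := hfin (S.biUnion fun x => (G x.1).image fun t => (x.1, t)) (by
    intro w hw
    simp only [Finset.mem_biUnion, Finset.mem_image] at hw
    obtain ⟨x, -, t, ht, rfl⟩ := hw
    exact (hG x.1).le (Submodule.subset_span ht))
  refine ⟨R₁, hR₁, g₁, hg₁, fun R' _ _ _ ψ J x hx hxJ => ?_⟩
  set g := MvPolynomial.map ψ.toRingHom g₁ with hgdef
  let c : Ideal (MvPolynomial (Fin n) R') :=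
    ((J.map C : Ideal (MvPolynomial (Fin n) R')) • KK K₀ R').comap (LinearMap.toSpanSingleton _ _ x)
  have hgc : g ∈ c.radical := by
    rw [Ideal.radical_eq_sInf, Ideal.mem_sInf]
    rintro P ⟨hcP, hP⟩
    by_contra hgP
    obtain ⟨⟨p, f⟩, hpf, hpP, hfP⟩ :=
      hcover (P.comap ((C : R' →+* MvPolynomial (Fin n) R').comp (algebraMap R₀ R'))) (Ideal.IsPrime.comap _) bot_le
    have hT : ∀ t ∈ K₀, t ∈ CJ a n p → g • mapV (algebraMap R₀ R') t ∈
        (((p.map (algebraMap R₀ R')).map C : Ideal (MvPolynomial (Fin n) R'))) • KK K₀ R' := by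
      intro t ht htp
      have hmem : t ∈ Submodule.span (MvPolynomial (Fin n) R₀) (G p : Set (V a n R₀)) := (hG p).ge ⟨ht, htp⟩
      have hle : Submodule.span (MvPolynomial (Fin n) R') (mapV (algebraMap R₀ R') '' (G p : Set (V a n R₀))) ≤
          (((p.map (algebraMap R₀ R')).map C : Ideal (MvPolynomial (Fin n) R')) • KK K₀ R').comap
            (LinearMap.lsmul (MvPolynomial (Fin n) R') (V a n R') g) := by
        rw [Submodule.span_le]
        rintro _ ⟨t, ht, rfl⟩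
        have h1 : t ∈ T p R₁ g₁ := hW (p, t) (Finset.mem_biUnion.2 ⟨(p, f), hpf, Finset.mem_image_of_mem _ ht⟩)
        simp only [T, Set.mem_setOf_eq, map_smul_KK_eq_span] at h1
        have h2 := mapV_mem_span ψ.toRingHom h1
        rw [Set.image_image, Set.image_congr fun v _ => mapV_algebraMap ψ v, mapV_smul, mapV_algebraMap] at h2
        rw [map_smul_KK_eq_span]
        exact h2
      exact hle (mapV_mem_span (algebraMap R₀ R') hmem)
    obtain ⟨s, hs, hsx⟩ := exists_smul_mem K₀ (hS _ hpf) g hT J hx hxJ P hpP hfP hgP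
    exact hs (hcP hsx)
  obtain ⟨m, hm⟩ := hgc
  exact ⟨g ^ m, ⟨m, rfl⟩, hm⟩

/-- Failure of flatness at a point is seen on all large finitely generated subrings. -/
theorem exists_fg_not_ptFlat {R : Type u} [CommRing R] [Algebra R₀ R]
    (Q : Ideal (MvPolynomial (Fin n) R)) [Q.IsPrime] (h : ¬ PtFlat K₀ R Q.primeCompl) :
    ∃ R₂ : Subalgebra R₀ R, R₂.FG ∧ ∀ R₃ : Subalgebra R₀ R, R₂ ≤ R₃ →
      ¬ PtFlat K₀ R₃ (Q.comap (MvPolynomial.map R₃.val.toRingHom)).primeCompl := by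
  simp only [PtFlat, not_forall, not_exists, not_and] at h
  obtain ⟨J, x, hx, hxJ, hno⟩ := h
  obtain ⟨R₂, hR₂, x₂, hx₂, hx₂x⟩ := exists_fg_span_descent hx
  refine ⟨R₂, hR₂, fun R₃ hle hflat => ?_⟩
  set x₃ := mapV (Subalgebra.inclusion hle).toRingHom x₂ with hx₃def
  have hx₃ : x₃ ∈ KK K₀ R₃ := span_mono_subalgebra hle hx₂
  have hx₃x : mapV R₃.val.toRingHom x₃ = x := by rw [hx₃def, mapV_val_inclusion, hx₂x]
  let J₃ : Ideal R₃ := J.comap R₃.val.toRingHom
  have hx₃J : x₃ ∈ CJ a n J₃ := mem_CJ.2 fun i => MvPolynomial.mem_map_C_iff.2 fun d => by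
    have := MvPolynomial.mem_map_C_iff.1 (mem_CJ.1 hxJ i) d
    rw [← hx₃x, mapV_apply, MvPolynomial.coeff_map] at this
    exact this
  obtain ⟨s, hs, hm'⟩ := hflat J₃ x₃ hx₃ hx₃J
  refine hno (MvPolynomial.map R₃.val.toRingHom s) (fun hmem => hs hmem) ?_
  have := smul_KK_le_closure K₀ J₃ hm'
  rw [← hx₃x, ← mapV_smul]
  clear hm'
  generalize s • x₃ = y at this ⊢
  induction this using AddSubmonoid.closure_induction with
  | mem y hy =>
    obtain ⟨r, hr, w, hw, rfl⟩ := hy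
    rw [← C_smul, mapV_smul, MvPolynomial.map_C]
    exact Submodule.smul_mem_smul (Ideal.mem_map_of_mem _ hr)
      (show mapV _ (mapV _ w) ∈ _ from (mapV_algebraMap R₃.val w).symm ▸ mapL_mem_KK K₀ hw)
  | zero => rw [mapV_zero]; exact zero_mem _
  | add y z _ _ hy hz => rw [mapV_add]; exact add_mem hy hz

end Groth.Agent.FlatValCrit
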