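import Mathlib
import Groth.Agent.FlatValCrit.Witness
import Groth.Agent.FlatValCrit.LocalDvr
import Groth.Agent.S13360

/-!
# The valuative criterion of flatness over an arbitrary reduced base

A finitely presented module over a polynomial ring over a reduced ring is flat at a point as soon as
it is flat at all points above it over all valuation rings; proved by ultraproducts of discrete
valuation rings.
-/

universe u
set_option autoImplicit false

namespace Groth.Agent.FlatValCrit

open MvPolynomial Groth.Agent.FlatModel Filter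

section ultraproduct

variable {ι : Type u} (U : Ultrafilter ι) (W : ι → Type u) [∀ i, CommRing (W i)] [∀ i, IsLocalRing (W i)]

/-- The prime of the product cutting out the ultraproduct. -/
def ultraPrime : Ideal (∀ i, W i) where
  carrier := {f | ∀ᶠ i in (U : Filter ι), f i ∈ IsLocalRing.maximalIdeal (W i)}
  add_mem' {f g} hf hg := by
    filter_upwards [hf, hg] with i hi hi' using (IsLocalRing.maximalIdeal (W i)).add_mem hi hi'
  zero_mem' := Eventually.of_forall fun i => (IsLocalRing.maximalIdeal (W i)).zero_mem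
  smul_mem' c f hf := by
    filter_upwards [hf] with i hi using (IsLocalRing.maximalIdeal (W i)).mul_mem_left _ hi

theorem mem_ultraPrime {f : ∀ i, W i} :
    f ∈ ultraPrime U W ↔ ∀ᶠ i in (U : Filter ι), f i ∈ IsLocalRing.maximalIdeal (W i) := Iff.rfl

instance : (ultraPrime U W).IsPrime := by
  refine ⟨fun h => ?_, fun {f g} h => ?_⟩
  · have h1 := (mem_ultraPrime U W).1 ((Ideal.eq_top_iff_one _).1 h)
    obtain ⟨i, hi⟩ := h1.exists
    exact (IsLocalRing.maximalIdeal.isMaximal (W i)).ne_top ((Ideal.eq_top_iff_one _).2 hi)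
  · rw [mem_ultraPrime, mem_ultraPrime, ← Ultrafilter.eventually_or]
    filter_upwards [h] with i hi using (IsLocalRing.maximalIdeal.isMaximal (W i)).isPrime.mem_or_mem hi

theorem notMem_ultraPrime {s : ∀ i, W i} :
    s ∉ ultraPrime U W ↔ ∀ᶠ i in (U : Filter ι), IsUnit (s i) := by
  rw [mem_ultraPrime, ← Ultrafilter.eventually_not]
  exact eventually_congr (Eventually.of_forall fun i => IsLocalRing.notMem_maximalIdeal)

/-- The ultraproduct of local rings. -/
abbrev Ultra : Type u := Localization.AtPrime (ultraPrime U W)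

theorem ultra_eq_iff {f g : ∀ i, W i} :
    algebraMap (∀ i, W i) (Ultra U W) f = algebraMap (∀ i, W i) (Ultra U W) g ↔
      ∀ᶠ i in (U : Filter ι), f i = g i := by
  classical
  rw [IsLocalization.eq_iff_exists (ultraPrime U W).primeCompl]
  constructor
  · rintro ⟨⟨c, hc⟩, hcf⟩
    filter_upwards [(notMem_ultraPrime U W).1 hc] with i hi
    exact hi.mul_left_cancel (congrFun hcf i)
  · intro h
    refine ⟨⟨fun i => if f i = g i then 1 else 0, (notMem_ultraPrime U W).2 ?_⟩, funext fun i => ?_⟩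
    · filter_upwards [h] with i hi
      simp [hi]
    · by_cases hi : f i = g i <;> simp [hi]

theorem ultra_surjective : Function.Surjective (algebraMap (∀ i, W i) (Ultra U W)) := by
  classical
  intro x
  obtain ⟨f, ⟨s, hs⟩, rfl⟩ := IsLocalization.exists_mk'_eq (ultraPrime U W).primeCompl x
  refine ⟨fun i => f i * Ring.inverse (s i), ?_⟩
  rw [IsLocalization.eq_mk'_iff_mul_eq, ← map_mul, ultra_eq_iff]
  filter_upwards [(notMem_ultraPrime U W).1 hs] with i hi
  show f i * Ring.inverse (s i) * s i = f i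
  rw [mul_assoc, Ring.inverse_mul_cancel _ hi, mul_one]

end ultraproduct

theorem exists_limit_point {n : ℕ} {R₀ : Type u} [CommRing R₀] {R : Type u} [CommRing R] [Algebra R₀ R]
    (Q : Ideal (MvPolynomial (Fin n) R)) {ι : Type u} (U : Ultrafilter ι) (W : ι → Type u)
    [∀ i, CommRing (W i)] [∀ i, IsLocalRing (W i)] [∀ i, Algebra R₀ (W i)] (sub : ι → Subalgebra R₀ R)
    (hmem : ∀ s : Finset R, ∀ᶠ x in (U : Filter ι), ∀ r ∈ s, r ∈ sub x)
    (ψ : ∀ x, sub x →ₐ[R₀] W x) (Q' : ∀ x, Ideal (MvPolynomial (Fin n) (W x))) (hQ' : ∀ x, (Q' x).IsPrime)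
    (hQ'Q : ∀ x, (Q' x).comap (MvPolynomial.map (ψ x).toRingHom) = Q.comap (MvPolynomial.map (sub x).val.toRingHom))
    (hQ'C : ∀ x, (Q' x).comap C = IsLocalRing.maximalIdeal (W x)) :
    ∃ (ψs : R →ₐ[R₀] Ultra U W) (Qs : Ideal (MvPolynomial (Fin n) (Ultra U W))), Qs.IsPrime ∧
      Qs.comap (MvPolynomial.map ψs.toRingHom) = Q ∧ Qs.comap C = IsLocalRing.maximalIdeal (Ultra U W) ∧
      ∀ F, MvPolynomial.map (algebraMap (∀ i, W i) (Ultra U W)) F ∈ Qs ↔
        ∀ᶠ x in (U : Filter ι), MvPolynomial.map (Pi.evalRingHom W x) F ∈ Q' x := by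
  classical
  let Wstar := Ultra U W
  let π := algebraMap (∀ x, W x) Wstar
  let t : R → ∀ x, W x := fun r x => if hr : r ∈ (sub x) then ψ x ⟨r, hr⟩ else 0
  have ht : ∀ r, ∀ᶠ x in (U : Filter ι), ∃ hr : r ∈ (sub x), t r x = ψ x ⟨r, hr⟩ := fun r => by
    filter_upwards [hmem {r}] with x hx
    exact ⟨hx r (Finset.mem_singleton_self r), dif_pos _⟩
  let ψs : R →ₐ[R₀] Wstar :=
    { toFun := fun r => π (t r)
      map_one' := by
        rw [← map_one π, ultra_eq_iff]
        filter_upwards [ht 1] with x ⟨hr, hx⟩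
        rw [hx]; exact map_one (ψ x)
      map_mul' := fun r r' => by
        rw [← map_mul π, ultra_eq_iff]
        filter_upwards [ht r, ht r', ht (r * r')] with x ⟨hr, hx⟩ ⟨hr', hx'⟩ ⟨hrr, hxx⟩
        rw [hxx, Pi.mul_apply, hx, hx', ← map_mul]
        rfl
      map_zero' := by
        rw [← map_zero π, ultra_eq_iff]
        filter_upwards [ht 0] with x ⟨hr, hx⟩
        rw [hx]; exact map_zero (ψ x)
      map_add' := fun r r' => by
        rw [← map_add π, ultra_eq_iff]
        filter_upwards [ht r, ht r', ht (r + r')] with x ⟨hr, hx⟩ ⟨hr', hx'⟩ ⟨hrr, hxx⟩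
        rw [hxx, Pi.add_apply, hx, hx', ← map_add]
        rfl
      commutes' := fun c => by
        rw [IsScalarTower.algebraMap_apply R₀ (∀ x, W x) Wstar]
        refine (ultra_eq_iff U W).2 ?_
        filter_upwards [ht (algebraMap R₀ R c)] with x ⟨hr, hx⟩
        rw [hx]
        exact (ψ x).commutes c }
  -- the limit of the bad points
  let ev : ∀ x, MvPolynomial (Fin n) (∀ x, W x) →+* MvPolynomial (Fin n) (W x) := fun x =>
    MvPolynomial.map (Pi.evalRingHom W x)
  let Pt : Ideal (MvPolynomial (Fin n) (∀ x, W x)) :=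
    { carrier := {F | ∀ᶠ x in (U : Filter ι), ev x F ∈ Q' x}
      add_mem' := fun {f g} hf hg => by
        filter_upwards [hf, hg] with x h1 h2
        rw [map_add]; exact (Q' x).add_mem h1 h2
      zero_mem' := Eventually.of_forall fun x => by rw [map_zero]; exact (Q' x).zero_mem
      smul_mem' := fun c f hf => by
        filter_upwards [hf] with x h1
        rw [smul_eq_mul, map_mul]; exact (Q' x).mul_mem_left _ h1 }
  have hPt : ∀ F, F ∈ Pt ↔ ∀ᶠ x in (U : Filter ι), ev x F ∈ Q' x := fun F => Iff.rfl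
  haveI : Pt.IsPrime := by
    refine ⟨fun htop => ?_, fun {f g} hfg => ?_⟩
    · obtain ⟨x, hx⟩ := ((hPt 1).1 ((Ideal.eq_top_iff_one _).1 htop)).exists
      rw [map_one] at hx
      exact (hQ' x).ne_top ((Ideal.eq_top_iff_one _).2 hx)
    · rw [hPt, hPt, ← Ultrafilter.eventually_or]
      filter_upwards [(hPt _).1 hfg] with x hx
      rw [map_mul] at hx
      exact (hQ' x).mem_or_mem hx
  have hPtC : ∀ c : ∀ x, W x, C c ∈ Pt ↔ c ∈ ultraPrime U W := fun c => by
    rw [hPt, mem_ultraPrime]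
    refine eventually_congr (Eventually.of_forall fun x => ?_)
    rw [← hQ'C x, Ideal.mem_comap]
    simp [ev]
  letI : Algebra (MvPolynomial (Fin n) (∀ x, W x)) (MvPolynomial (Fin n) Wstar) := MvPolynomial.algebraMvPolynomial
  haveI : IsLocalization ((ultraPrime U W).primeCompl.map (C (σ := Fin n) (R := ∀ x, W x)))
      (MvPolynomial (Fin n) Wstar) := MvPolynomial.isLocalization _ _
  have hdisj : Disjoint ((ultraPrime U W).primeCompl.map (C (σ := Fin n) (R := ∀ x, W x)) : Set (MvPolynomial (Fin n) (∀ x, W x))) (Pt : Set _) := by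
    rw [Set.disjoint_left]
    rintro _ ⟨c, hc, rfl⟩ hmem
    exact hc ((hPtC c).1 hmem)
  let Qs : Ideal (MvPolynomial (Fin n) Wstar) := Pt.map (algebraMap _ _)
  haveI : Qs.IsPrime := IsLocalization.isPrime_of_isPrime_disjoint _ _ Pt inferInstance hdisj
  have hQs : ∀ F, MvPolynomial.map π F ∈ Qs ↔ F ∈ Pt := fun F =>
    SetLike.ext_iff.1 (IsLocalization.comap_map_of_isPrime_disjoint _ _ inferInstance hdisj) F
  have hQsC : Qs.comap C = IsLocalRing.maximalIdeal Wstar := by
    have h1 : (Qs.comap C).comap π = ultraPrime U W := by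
      ext c
      rw [Ideal.mem_comap, Ideal.mem_comap, ← hPtC, ← hQs, MvPolynomial.map_C]
    rw [← IsLocalization.map_comap (ultraPrime U W).primeCompl Wstar (Qs.comap C), Ideal.under_def, h1,
      IsLocalization.AtPrime.map_eq_maximalIdeal]
  have hQsQ : Qs.comap (MvPolynomial.map ψs.toRingHom) = Q := by
    ext F
    let Ft : MvPolynomial (Fin n) (∀ x, W x) := ∑ d ∈ F.support, monomial d (t (F.coeff d))
    have hFt : MvPolynomial.map π Ft = MvPolynomial.map ψs.toRingHom F := by
      conv_rhs => rw [F.as_sum, map_sum]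
      rw [map_sum]
      exact Finset.sum_congr rfl fun d _ => by rw [map_monomial, map_monomial]; rfl
    rw [Ideal.mem_comap, ← hFt, hQs, hPt]
    have key : ∀ᶠ x in (U : Filter ι), (ev x Ft ∈ Q' x ↔ F ∈ Q) := by
      filter_upwards [hmem F.coeffs] with x hx
      obtain ⟨Fx, hFx⟩ : F ∈ Set.range (MvPolynomial.map (sub x).val.toRingHom) :=
        MvPolynomial.mem_range_map_iff_coeffs_subset.2 fun c hc => ⟨⟨c, hx c hc⟩, rfl⟩
      have h1 : ev x Ft = MvPolynomial.map (ψ x).toRingHom Fx := by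
        ext d
        have h2 : F.coeff d = ((Fx.coeff d : (sub x)) : R) := by rw [← hFx, MvPolynomial.coeff_map]; rfl
        show MvPolynomial.coeff d (MvPolynomial.map (Pi.evalRingHom W x) Ft) = _
        rw [MvPolynomial.coeff_map, MvPolynomial.coeff_map, coeff_sum]
        simp only [coeff_monomial, Finset.sum_ite_eq']
        by_cases hd : d ∈ F.support
        · rw [if_pos hd]
          show t (F.coeff d) x = _
          simp only [t]
          rw [dif_pos (h2 ▸ (Fx.coeff d).2)]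
          exact congrArg (ψ x) (Subtype.ext h2)
        · rw [if_neg hd, map_zero]
          rw [MvPolynomial.notMem_support_iff] at hd
          rw [show Fx.coeff d = 0 from Subtype.ext (h2.symm.trans hd), map_zero]
      rw [h1, ← Ideal.mem_comap, hQ'Q x, Ideal.mem_comap, hFx]
    constructor
    · intro hF
      obtain ⟨x, hx1, hx2⟩ := (hF.and key).exists
      exact hx2.1 hx1
    · intro hF
      filter_upwards [key] with x hx using hx.2 hF
  exact ⟨ψs, Qs, inferInstance, hQsQ, hQsC, fun F => (hQs F).trans (hPt F)⟩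

/-- A map from a finitely presented algebra lifts to almost all factors, abstract form. -/
theorem exists_lift_general {n : ℕ} {R₀ : Type u} [CommRing R₀] [IsNoetherianRing R₀] {ι : Type u} (F : Filter ι)
    {W : ι → Type u} [∀ i, CommRing (W i)] [∀ i, Algebra R₀ (W i)]
    {A S B : Type u} [CommRing A] [CommRing S] [CommRing B] [Algebra R₀ A] [Algebra R₀ S] [Algebra R₀ B]
    [Algebra.FiniteType R₀ B] (π : A →ₐ[R₀] S) (hπ : Function.Surjective π) (ev : ∀ i, A →ₐ[R₀] W i)
    (heq : ∀ f, π f = 0 → ∀ᶠ i in F, ev i f = 0) (v : B →ₐ[R₀] S) (g : MvPolynomial (Fin n) B) :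
    ∃ G : MvPolynomial (Fin n) A, MvPolynomial.map π.toRingHom G = MvPolynomial.map v.toRingHom g ∧
      ∀ᶠ x in F, ∃ φ : B →ₐ[R₀] W x, MvPolynomial.map φ.toRingHom g = MvPolynomial.map (ev x).toRingHom G := by
  classical
  obtain ⟨k, p, hp⟩ := Algebra.FiniteType.iff_quotient_mvPolynomial''.1 (inferInstance : Algebra.FiniteType R₀ B)
  choose y hy using fun j : Fin k => hπ (v (p (X j)))
  let q : MvPolynomial (Fin k) R₀ →ₐ[R₀] A := MvPolynomial.aeval y
  have hq : π.comp q = v.comp p := MvPolynomial.algHom_ext fun j => by simpa [q] using hy j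
  obtain ⟨s, hs⟩ := (IsNoetherian.noetherian (RingHom.ker p.toRingHom) : (RingHom.ker p.toRingHom).FG)
  have hker : ∀ᶠ x in F, ∀ e ∈ s, ev x (q e) = 0 := by
    rw [Filter.eventually_all_finset]
    intro e he
    refine heq _ ?_
    have he0 : p e = 0 := hs.le (Submodule.subset_span he)
    rw [show π (q e) = v (p e) from AlgHom.congr_fun hq e, he0, map_zero]
  obtain ⟨gt, hgt⟩ := MvPolynomial.map_surjective p.toRingHom hp g
  refine ⟨MvPolynomial.map q.toRingHom gt, ?_, ?_⟩
  · rw [← hgt, MvPolynomial.map_map, MvPolynomial.map_map]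
    exact RingHom.congr_fun (congrArg MvPolynomial.map (RingHom.ext fun e => AlgHom.congr_fun hq e)) gt
  filter_upwards [hker] with x hx1
  have hle : RingHom.ker p.toRingHom ≤ RingHom.ker ((ev x).comp q).toRingHom := by
    rw [← hs]
    exact Submodule.span_le.2 fun e he => hx1 e he
  refine ⟨AlgHom.liftOfSurjective p hp ((ev x).comp q) hle, ?_⟩
  rw [← hgt, MvPolynomial.map_map, MvPolynomial.map_map]
  exact RingHom.congr_fun (congrArg MvPolynomial.map (RingHom.ext fun e => AlgHom.liftOfSurjective_apply p hp _ hle e)) gt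

theorem exists_lift_subalgebra {n : ℕ} {R₀ : Type u} [CommRing R₀] [IsNoetherianRing R₀] {ι : Type u} (F : Filter ι)
    {W : ι → Type u} [∀ i, CommRing (W i)] [∀ i, Algebra R₀ (W i)]
    {A S : Type u} [CommRing A] [CommRing S] [Algebra R₀ A] [Algebra R₀ S]
    (π : A →ₐ[R₀] S) (hπ : Function.Surjective π) (ev : ∀ i, A →ₐ[R₀] W i)
    (heq : ∀ f, π f = 0 → ∀ᶠ i in F, ev i f = 0) (R' : Subalgebra R₀ S) (hR' : R'.FG) (g : MvPolynomial (Fin n) R') :
    ∃ G : MvPolynomial (Fin n) A, MvPolynomial.map π.toRingHom G = MvPolynomial.map R'.val.toRingHom g ∧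
      ∀ᶠ x in F, ∃ φ : R' →ₐ[R₀] W x, MvPolynomial.map φ.toRingHom g = MvPolynomial.map (ev x).toRingHom G := by
  haveI : Algebra.FiniteType R₀ R' := (Subalgebra.fg_iff_finiteType R').1 hR'
  exact exists_lift_general (B := ↥R') F π hπ ev heq R'.val g

variable {a n : ℕ} {R₀ : Type u} [CommRing R₀] (K₀ : Submodule (MvPolynomial (Fin n) R₀) (V a n R₀))

theorem ptFlat_of_valuationRing [IsNoetherianRing R₀] {R : Type u} [CommRing R] [_root_.IsReduced R] [Algebra R₀ R]
    (Q : Ideal (MvPolynomial (Fin n) R)) [Q.IsPrime]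
    (h : ∀ (W : Type u) [CommRing W] [IsDomain W] [ValuationRing W] [Algebra R₀ W] (ψ : R →ₐ[R₀] W)
      (Q' : Ideal (MvPolynomial (Fin n) W)) [Q'.IsPrime],
        Q'.comap (MvPolynomial.map ψ.toRingHom) = Q → Q'.comap C = IsLocalRing.maximalIdeal W →
          PtFlat K₀ W Q'.primeCompl) :
    PtFlat K₀ R Q.primeCompl := by
  classical
  by_contra hne
  obtain ⟨R₂, hR₂, hlarge⟩ := exists_fg_not_ptFlat K₀ Q hne
  let ι : Type u := {R₃ : Subalgebra R₀ R // R₃.FG ∧ R₂ ≤ R₃}
  haveI : Nonempty ι := ⟨⟨R₂, hR₂, le_rfl⟩⟩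
  haveI : IsDirected ι (· ≤ ·) := ⟨fun x y => ⟨⟨x.1 ⊔ y.1, x.2.1.sup y.2.1, x.2.2.trans le_sup_left⟩,
    (le_sup_left : x.1 ≤ x.1 ⊔ y.1), (le_sup_right : y.1 ≤ x.1 ⊔ y.1)⟩⟩
  have hbad : ∀ x : ι, ∃ (W : Type u) (_ : CommRing W) (_ : IsDomain W) (_ : IsDiscreteValuationRing W)
      (_ : Algebra R₀ W) (ψ : x.1 →ₐ[R₀] W) (Q' : Ideal (MvPolynomial (Fin n) W)) (_ : Q'.IsPrime),
        Q'.comap (MvPolynomial.map ψ.toRingHom) = Q.comap (MvPolynomial.map x.1.val.toRingHom) ∧
        Q'.comap C = IsLocalRing.maximalIdeal W ∧ ¬ PtFlat K₀ W Q'.primeCompl := by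
    intro x
    haveI : Algebra.FiniteType R₀ x.1 := (Subalgebra.fg_iff_finiteType _).1 x.2.1
    haveI : IsNoetherianRing x.1 := Algebra.FiniteType.isNoetherianRing R₀ x.1
    haveI : _root_.IsReduced x.1 := isReduced_of_injective x.1.val Subtype.val_injective
    by_contra hno
    push_neg at hno
    exact hlarge x.1 x.2.2 (ptFlat_of_dvr K₀ _ fun W _ _ _ _ ψ Q' hQ' h1 h2 =>
      hno W inferInstance inferInstance inferInstance inferInstance ψ Q' hQ' h1 h2)
  choose W instR instD instV instA ψ Q' hQ' hQ'Q hQ'C hnf using hbad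
  haveI : ∀ x, IsLocalRing (W x) := fun x => inferInstance
  haveI : ∀ x, ValuationRing (W x) := fun x => inferInstance
  let U : Ultrafilter ι := Ultrafilter.of atTop
  have hge : ∀ x : ι, ∀ᶠ y in (U : Filter ι), x ≤ y := fun x =>
    (Filter.eventually_ge_atTop x).filter_mono (Ultrafilter.of_le _)
  have hmem : ∀ s : Finset R, ∀ᶠ x in (U : Filter ι), ∀ r ∈ s, r ∈ x.1 := fun s => by
    filter_upwards [hge ⟨R₂ ⊔ Algebra.adjoin R₀ (s : Set R), hR₂.sup (Subalgebra.fg_adjoin_finset _), le_sup_left⟩] with x hx r hr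
    exact hx ((le_sup_right : _ ≤ R₂ ⊔ Algebra.adjoin R₀ (s : Set R)) (Algebra.subset_adjoin hr))
  obtain ⟨ψs, Qs, hQs', hQsQ, hQsC, hQs⟩ := exists_limit_point Q U W (fun x => x.1) hmem ψ Q' hQ' hQ'Q hQ'C
  haveI := hQs'
  haveI : IsDomain (Ultra U W) := (Groth.Agent.S13360.result W (ultraPrime U W)).1
  haveI : PreValuationRing (Ultra U W) := (Groth.Agent.S13360.result W (ultraPrime U W)).2
  haveI : ValuationRing (Ultra U W) := {}
  obtain ⟨R', hR', g, hg, hwit⟩ := exists_witness K₀ Qs (h (Ultra U W) ψs Qs hQsQ hQsC)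
  obtain ⟨G, hG, hev⟩ := exists_lift_subalgebra (A := ∀ i, W i) (U : Filter ι)
    (IsScalarTower.toAlgHom R₀ (∀ i, W i) (Ultra U W)) (ultra_surjective U W) (fun x => Pi.evalAlgHom R₀ W x)
    (fun f hf => (ultra_eq_iff U W (g := 0)).1 (hf.trans (map_zero _).symm)) R' hR' g
  replace hG : MvPolynomial.map (algebraMap (∀ i, W i) (Ultra U W)) G = MvPolynomial.map R'.val.toRingHom g := hG
  rw [← hG, hQs, ← Ultrafilter.eventually_not] at hg
  obtain ⟨x, ⟨φ, hφ⟩, hx⟩ := (hev.and hg).exists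
  haveI : IsNoetherianRing (W x) := inferInstance
  exact hnf x ((hwit (W x) φ).mono K₀ (Submonoid.powers_le.2 (hφ ▸ hx)))

end Groth.Agent.FlatValCrit
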