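import Mathlib
import Groth.Agent.FlatValCrit.Ultra
import Groth.Agent.FlatModel.Open
import Groth.Agent.FlatMisc.ValuationFP

/-!
# Raynaud–Gruson finiteness over a domain

A finite module over a polynomial ring over a domain which is flat at a point is finitely presented
and flat near that point.
-/

universe u
set_option autoImplicit false

open TensorProduct

namespace Groth.Agent.FlatValCrit

open MvPolynomial Groth.Agent.FlatModel

variable {a n : ℕ} {R : Type u} [CommRing R]

/-- Finitely many relations generate all relations in a fibre. -/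
theorem exists_fibre_gens {κ : Type u} [CommRing κ] [IsNoetherianRing κ] (θ : R →+* κ) (p : Ideal R) [p.IsPrime]
    (hp : RingHom.ker θ = p) (hfrac : ∀ k : κ, ∃ s ∉ p, ∃ r, θ s * k = θ r)
    (K : Submodule (MvPolynomial (Fin n) R) (V a n R)) :
    ∃ G : Finset (V a n R), (G : Set (V a n R)) ⊆ K ∧ ∀ w ∈ K, ∃ s ∉ p,
      ∃ u ∈ Submodule.span (MvPolynomial (Fin n) R) (G : Set (V a n R)), s • w - u ∈ CJ a n p := by
  classical
  obtain ⟨t, htK, ht⟩ := (Submodule.fg_span_iff_fg_span_finset_subset (mapV θ '' (K : Set (V a n R)))).mp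
    (IsNoetherian.noetherian (Submodule.span (MvPolynomial (Fin n) κ) (mapV θ '' (K : Set (V a n R)))))
  choose g hgK hg using fun x : t => htK x.2
  refine ⟨Finset.univ.image g, ?_, ?_⟩
  · intro v hv
    obtain ⟨x, -, rfl⟩ := Finset.mem_image.1 hv
    exact hgK x
  set G := Submodule.span (MvPolynomial (Fin n) R) (↑(Finset.univ.image g) : Set (V a n R))
  have hpoly : ∀ c : MvPolynomial (Fin n) κ, ∃ s ∉ p, ∃ c' : MvPolynomial (Fin n) R,
      MvPolynomial.map θ c' = C (θ s) * c := by
    intro c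
    induction c using MvPolynomial.induction_on' with
    | monomial d k =>
      obtain ⟨s, hs, r, hr⟩ := hfrac k
      exact ⟨s, hs, monomial d r, by rw [map_monomial, C_mul_monomial, hr]⟩
    | add c₁ c₂ h₁ h₂ =>
      obtain ⟨s₁, hs₁, c₁', h₁⟩ := h₁
      obtain ⟨s₂, hs₂, c₂', h₂⟩ := h₂
      refine ⟨s₁ * s₂, ‹p.IsPrime›.mul_notMem hs₁ hs₂, C s₂ * c₁' + C s₁ * c₂', ?_⟩
      rw [map_add, map_mul, map_mul, map_C, map_C, h₁, h₂, map_mul, map_mul]
      ring
  have hspan : ∀ x ∈ Submodule.span (MvPolynomial (Fin n) κ) (t : Set (V a n κ)), ∃ s ∉ p, ∃ u ∈ G,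
      mapV θ u = (C (θ s) : MvPolynomial (Fin n) κ) • x := by
    intro x hx
    induction hx using Submodule.span_induction with
    | mem x hx =>
      refine ⟨1, (Ideal.ne_top_iff_one p).1 (Ideal.IsPrime.ne_top ‹_›), g ⟨x, hx⟩,
        Submodule.subset_span (Finset.mem_image_of_mem g (Finset.mem_univ _)), ?_⟩
      rw [hg, map_one, map_one, one_smul]
    | zero => exact ⟨1, (Ideal.ne_top_iff_one p).1 (Ideal.IsPrime.ne_top ‹_›), 0, G.zero_mem, by rw [mapV_zero, smul_zero]⟩
    | add x y _ _ hx hy =>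
      obtain ⟨s, hs, u, hu, hux⟩ := hx
      obtain ⟨s', hs', u', hu', hux'⟩ := hy
      refine ⟨s * s', ‹p.IsPrime›.mul_notMem hs hs', (C s' : MvPolynomial (Fin n) R) • u + (C s : MvPolynomial (Fin n) R) • u',
        add_mem (G.smul_mem _ hu) (G.smul_mem _ hu'), ?_⟩
      rw [mapV_add, mapV_smul, mapV_smul, map_C, map_C, hux, hux', smul_smul, smul_smul, map_mul, map_mul, smul_add,
        mul_comm (C (θ s')) (C (θ s))]
    | smul c x _ hx =>
      obtain ⟨s, hs, u, hu, hux⟩ := hx
      obtain ⟨s', hs', c', hc'⟩ := hpoly c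
      refine ⟨s' * s, ‹p.IsPrime›.mul_notMem hs' hs, c' • u, G.smul_mem _ hu, ?_⟩
      rw [mapV_smul, hc', hux, smul_smul, smul_smul, map_mul, map_mul]
      congr 1
      ring
  intro w hw
  obtain ⟨s, hs, u, hu, hux⟩ := hspan (mapV θ w) (ht.le (Submodule.subset_span ⟨w, hw, rfl⟩))
  refine ⟨s, hs, u, hu, mem_CJ.2 fun i => MvPolynomial.mem_map_C_iff.2 fun d => ?_⟩
  have h1 : mapV θ (s • w - u) = 0 := by
    rw [mapV_sub, hux, ← C_smul, mapV_smul, map_C, sub_self]
  rw [← hp, RingHom.mem_ker, ← MvPolynomial.coeff_map, ← mapV_apply, h1]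
  rfl

section valuation

variable (K : Submodule (MvPolynomial (Fin n) R) (V a n R)) {W : Type u} [CommRing W] [Algebra R W]

/-- The relations after base change. -/
noncomputable def relBC (W : Type u) [CommRing W] [Algebra R W] : Submodule (MvPolynomial (Fin n) W) (V a n W) :=
  Submodule.span _ (mapV (algebraMap R W) '' (K : Set (V a n R)))

/-- Torsion of the base changed module is killed off `Q` when the module is flat at `Q`. -/
theorem exists_smul_mem_relBC [IsDomain W] (Q : Ideal (MvPolynomial (Fin n) R)) [Q.IsPrime]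
    [Module.Flat R (LocalizedModule Q.primeCompl (V a n R ⧸ K))]
    {c : W} (hc : c ≠ 0) {v : V a n W} (hv : c • v ∈ relBC K W) :
    ∃ s ∉ Q, MvPolynomial.map (algebraMap R W) s • v ∈ relBC K W := by
  classical
  let M := V a n R ⧸ K
  let π : V a n R →ₗ[R] M := K.mkQ.restrictScalars R
  let ev : W ⊗[R] V a n R →ₗ[W] V a n W := (FlatModel.mapL W).liftBaseChange W
  have hev : ∀ (x : W) (w : V a n R), ev (x ⊗ₜ w) = x • mapV (algebraMap R W) w := fun x w => by
    simp [ev, FlatModel.mapL]
  have hevbij : Function.Bijective ev := by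
    have h1 : ev = (((FlatModel.B a n R).baseChange W).equiv (FlatModel.B a n W) (Equiv.refl _)).toLinearMap := by
      refine ((FlatModel.B a n R).baseChange W).ext fun e => ?_
      rw [LinearEquiv.coe_coe, Module.Basis.equiv_apply, Module.Basis.baseChange_apply, hev, one_smul]
      exact FlatModel.mapL_B e
    rw [h1]
    exact LinearEquiv.bijective _
  let π' : W ⊗[R] V a n R →ₗ[R] W ⊗[R] M := π.lTensor W
  let m : MvPolynomial (Fin n) R → W ⊗[R] V a n R →ₗ[R] W ⊗[R] V a n R := fun s =>
    ((LinearMap.lsmul (MvPolynomial (Fin n) R) (V a n R) s).restrictScalars R).lTensor W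
  let mM : MvPolynomial (Fin n) R → W ⊗[R] M →ₗ[R] W ⊗[R] M := fun s =>
    ((LinearMap.lsmul (MvPolynomial (Fin n) R) M s).restrictScalars R).lTensor W
  have hm : ∀ s y, ev (m s y) = MvPolynomial.map (algebraMap R W) s • ev y := by
    intro s y
    induction y using TensorProduct.induction_on with
    | zero => simp
    | tmul x w => simp only [m, LinearMap.lTensor_tmul, LinearMap.restrictScalars_apply, LinearMap.lsmul_apply, hev, mapV_smul, smul_comm x]
    | add y z hy hz => simp only [map_add, smul_add, hy, hz]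
  have hmM : ∀ s y, π' (m s y) = mM s (π' y) := by
    intro s y
    induction y using TensorProduct.induction_on with
    | zero => simp
    | tmul x w => simp [π', m, mM, π]
    | add y z hy hz => simp only [map_add, hy, hz]
  have hsmulW : ∀ (x : W) y, π' (x • y) = x • π' y := fun x y =>
    (π.baseChange W).map_smul x y
  have hzero : ∀ y, ev y ∈ relBC K W ↔ π' y = 0 := by
    intro y
    constructor
    · intro hy
      let Z : Submodule (MvPolynomial (Fin n) W) (V a n W) :=
        { carrier := {v | ∃ y, ev y = v ∧ π' y = 0}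
          add_mem' := by
            rintro _ _ ⟨y, rfl, hy⟩ ⟨z, rfl, hz⟩
            exact ⟨y + z, map_add _ _ _, by rw [map_add, hy, hz, add_zero]⟩
          zero_mem' := ⟨0, map_zero _, map_zero _⟩
          smul_mem' := by
            rintro P _ ⟨y, rfl, hy⟩
            induction P using MvPolynomial.induction_on' with
            | monomial d x =>
              refine ⟨x • m (monomial d 1) y, ?_, ?_⟩
              · rw [map_smul, hm, ← C_smul, smul_smul, map_monomial, map_one, C_mul_monomial, mul_one]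
              · rw [hsmulW, hmM, hy, map_zero, smul_zero]
            | add P P' hP hP' =>
              obtain ⟨y₁, e₁, h₁⟩ := hP
              obtain ⟨y₂, e₂, h₂⟩ := hP'
              exact ⟨y₁ + y₂, by rw [map_add, e₁, e₂, add_smul], by rw [map_add, h₁, h₂, add_zero]⟩ }
      have hle : relBC K W ≤ Z := Submodule.span_le.2 (by
        rintro _ ⟨w, hw, rfl⟩
        refine ⟨1 ⊗ₜ w, by rw [hev, one_smul], ?_⟩
        show (1 : W) ⊗ₜ[R] π w = 0
        rw [show π w = 0 from (Submodule.Quotient.mk_eq_zero K).2 hw, TensorProduct.tmul_zero])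
      obtain ⟨z, hz, hz0⟩ := hle hy
      rwa [← hevbij.1 hz]
    · intro hy
      let i : K.restrictScalars R →ₗ[R] V a n R := (K.restrictScalars R).subtype
      have hex : Function.Exact i π := fun w =>
        ⟨fun h => ⟨⟨w, (Submodule.Quotient.mk_eq_zero K).1 h⟩, rfl⟩, fun ⟨x, hx⟩ => (Submodule.Quotient.mk_eq_zero K).2 (hx ▸ x.2)⟩
      obtain ⟨z, rfl⟩ := (lTensor_exact W hex K.mkQ_surjective y).1 hy
      clear hy
      induction z using TensorProduct.induction_on with
      | zero => simp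
      | tmul x w =>
        rw [LinearMap.lTensor_tmul, hev, ← C_smul]
        exact Submodule.smul_mem _ _ (Submodule.subset_span ⟨w, w.2, rfl⟩)
      | add z z' hz hz' => rw [map_add, map_add]; exact add_mem hz hz'
  obtain ⟨y, rfl⟩ := hevbij.2 v
  rw [← map_smul, hzero, hsmulW] at hv
  let f := LocalizedModule.mkLinearMap Q.primeCompl M
  let MQ := LocalizedModule Q.primeCompl M
  have h0 : (f.restrictScalars R).lTensor W (π' y) = 0 := by
    have h2 : c • (f.restrictScalars R).baseChange W (π' y) = 0 := by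
      rw [← map_smul, hv, map_zero]
    by_contra hne
    exact hne (by
      have h3 : (f.restrictScalars R).baseChange W (π' y) ∈ Submodule.torsion W (W ⊗[R] MQ) :=
        ⟨⟨c, mem_nonZeroDivisors_of_ne_zero hc⟩, h2⟩
      rw [Module.Flat.torsion_eq_bot, Submodule.mem_bot] at h3
      exact h3)
  have h1 : AlgebraTensorModule.rTensor R W f (TensorProduct.comm R W M (π' y)) = 0 := by
    have hc : ∀ z, AlgebraTensorModule.rTensor R W f (TensorProduct.comm R W M z) =
        TensorProduct.comm R W MQ ((f.restrictScalars R).lTensor W z) := by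
      intro z
      induction z using TensorProduct.induction_on with
      | zero => simp
      | tmul x w => simp
      | add z z' hz hz' => simp only [map_add, hz, hz']
    rw [hc, h0, map_zero]
  obtain ⟨⟨s, hs⟩, hsy⟩ := (IsLocalizedModule.eq_zero_iff Q.primeCompl (AlgebraTensorModule.rTensor R W f)).1 h1
  refine ⟨s, hs, ?_⟩
  rw [← hm, hzero, hmM]
  apply (TensorProduct.comm R W M).injective
  rw [map_zero]
  have hc : ∀ z, TensorProduct.comm R W M (mM s z) = s • TensorProduct.comm R W M z := by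
    intro z
    induction z using TensorProduct.induction_on with
    | zero => simp
    | tmul x w => simp [mM, TensorProduct.smul_tmul']
    | add z z' hz hz' => simp only [map_add, hz, hz', smul_add]
  rw [hc]
  exact hsy

end valuation

/-- Over a valuation ring finitely many elements have a common divisor among them. -/
theorem exists_common_factor {W : Type u} [CommRing W] [IsDomain W] [ValuationRing W] {x : V a n W} (hx : x ≠ 0) :
    ∃ (c : W) (x' : V a n W), c ≠ 0 ∧ x = c • x' ∧ ∃ i d, (x i).coeff d = c := by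
  classical
  let S : Finset W := Finset.univ.biUnion fun i => (x i).coeffs
  have hne : S.Nonempty := by
    by_contra h
    refine hx (funext fun i => ?_)
    ext d
    by_contra hd
    exact h ⟨(x i).coeff d, Finset.mem_biUnion.2 ⟨i, Finset.mem_univ _, MvPolynomial.coeff_mem_coeffs d (by simpa using hd)⟩⟩
  have hgcd : ∀ T : Finset W, T.Nonempty → ∃ c ∈ T, ∀ y ∈ T, c ∣ y := by
    intro T hT
    induction hT using Finset.Nonempty.cons_induction with
    | singleton y => exact ⟨y, Finset.mem_singleton_self y, fun z hz => by rw [Finset.mem_singleton.1 hz]⟩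
    | cons y T hy hT ih =>
      obtain ⟨c, hc, hdvd⟩ := ih
      rcases ValuationRing.dvd_total c y with h | h
      · exact ⟨c, Finset.mem_cons_of_mem hc, fun z hz => (Finset.mem_cons.1 hz).elim (fun e => e ▸ h) (hdvd z)⟩
      · exact ⟨y, Finset.mem_cons_self _ _, fun z hz => (Finset.mem_cons.1 hz).elim (fun e => e ▸ dvd_rfl) (fun hz => h.trans (hdvd z hz))⟩
  obtain ⟨c, hc, hdvd⟩ := hgcd S hne
  have hdiv : ∀ i d, c ∣ (x i).coeff d := fun i d => by
    by_cases hd : (x i).coeff d = 0
    · rw [hd]; exact dvd_zero c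
    · exact hdvd _ (Finset.mem_biUnion.2 ⟨i, Finset.mem_univ _, MvPolynomial.coeff_mem_coeffs d hd⟩)
  have hC : ∀ i, C c ∣ x i := fun i => C_dvd_iff_dvd_coeff c (x i) |>.2 (hdiv i)
  choose x' hx' using hC
  obtain ⟨i, -, hci⟩ := Finset.mem_biUnion.1 hc
  obtain ⟨d, hd, rfl⟩ := MvPolynomial.mem_coeffs_iff.1 hci
  exact ⟨_, x', MvPolynomial.mem_support_iff.1 hd, funext fun i => by rw [Pi.smul_apply, MvPolynomial.smul_eq_C_mul, hx' i], i, d, rfl⟩

/-- Over a valuation ring, relations generating a fibre generate at a point where the module is flat. -/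
theorem ptFlat_valuation {R₀ : Type u} [CommRing R₀] [Algebra R₀ R] (K₀ : Submodule (MvPolynomial (Fin n) R₀) (V a n R₀))
    (K : Submodule (MvPolynomial (Fin n) R) (V a n R)) (hK₀ : KK K₀ R ≤ K)
    (Q : Ideal (MvPolynomial (Fin n) R)) [Q.IsPrime] [Module.Flat R (LocalizedModule Q.primeCompl (V a n R ⧸ K))]
    (hfib : ∀ w ∈ K, ∃ s ∉ Q.comap C, ∃ u ∈ KK K₀ R, s • w - u ∈ CJ a n (Q.comap C))
    (W : Type u) [CommRing W] [IsDomain W] [ValuationRing W] [Algebra R₀ W] (ψ : R →ₐ[R₀] W)
    (Q' : Ideal (MvPolynomial (Fin n) W)) [Q'.IsPrime] (hQ'Q : Q'.comap (MvPolynomial.map ψ.toRingHom) = Q)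
    (hQ'C : Q'.comap C = IsLocalRing.maximalIdeal W) : PtFlat K₀ W Q'.primeCompl := by
  classical
  letI : Algebra R W := ψ.toRingHom.toAlgebra
  have hp : ∀ r, r ∈ Q.comap C ↔ algebraMap R W r ∈ IsLocalRing.maximalIdeal W := fun r => by
    rw [← hQ'C, ← hQ'Q, Ideal.mem_comap, Ideal.mem_comap, Ideal.mem_comap, map_C]
    rfl
  have hKKle : KK K₀ W ≤ relBC K W := by
    refine Submodule.span_le.2 ?_
    rintro _ ⟨w, hw, rfl⟩
    refine Submodule.subset_span ⟨_, hK₀ (mapL_mem_KK K₀ hw), ?_⟩
    exact mapV_algebraMap ψ w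
  -- modulo the maximal ideal the relations are generated by the given ones
  let mW : Submodule (MvPolynomial (Fin n) W) (V a n W) := KK K₀ W ⊔ CJ a n (IsLocalRing.maximalIdeal W)
  have hmod : relBC K W ≤ mW := by
    refine Submodule.span_le.2 ?_
    rintro _ ⟨w, hw, rfl⟩
    obtain ⟨s, hs, u, hu, hsu⟩ := hfib w hw
    have hunit : IsUnit (algebraMap R W s) := IsLocalRing.notMem_maximalIdeal.1 fun h => hs ((hp s).2 h)
    have h1 : mapV (algebraMap R W) u ∈ KK K₀ W := by
      have h2 := mapV_mem_span (algebraMap R W) hu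
      rw [Set.image_image] at h2
      refine Submodule.span_mono ?_ h2
      rintro _ ⟨v, hv, rfl⟩
      exact ⟨v, hv, (mapV_algebraMap ψ v).symm⟩
    have h2 : mapV (algebraMap R W) (s • w - u) ∈ CJ a n (IsLocalRing.maximalIdeal W) :=
      mem_CJ.2 fun i => MvPolynomial.mem_map_C_iff.2 fun d => by
        rw [mapV_apply, coeff_map, ← hp]
        exact MvPolynomial.mem_map_C_iff.1 (mem_CJ.1 hsu i) d
    have h3 : (C (algebraMap R W s) : MvPolynomial (Fin n) W) • mapV (algebraMap R W) w ∈ mW := by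
      have := Submodule.add_mem mW (Submodule.mem_sup_right h2) (Submodule.mem_sup_left h1)
      rwa [← mapV_add, sub_add_cancel, ← C_smul, mapV_smul, map_C] at this
    exact (Submodule.smul_mem_iff_of_isUnit _ (hunit.map C)).1 h3
  -- the saturation
  let Ks : Submodule (MvPolynomial (Fin n) W) (V a n W) :=
    { carrier := {v | ∃ c : W, c ≠ 0 ∧ c • v ∈ relBC K W}
      add_mem' := by
        rintro v v' ⟨c, hc, hv⟩ ⟨c', hc', hv'⟩
        refine ⟨c * c', mul_ne_zero hc hc', ?_⟩
        rw [smul_add]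
        refine add_mem ?_ ?_
        · rw [mul_comm, mul_smul]; exact Submodule.smul_of_tower_mem _ _ hv
        · rw [mul_smul]; exact Submodule.smul_of_tower_mem _ _ hv'
      zero_mem' := ⟨1, one_ne_zero, by rw [smul_zero]; exact zero_mem _⟩
      smul_mem' := by
        rintro P v ⟨c, hc, hv⟩
        exact ⟨c, hc, by rw [smul_comm]; exact Submodule.smul_mem _ _ hv⟩ }
  have hKsle : relBC K W ≤ Ks := fun v hv => ⟨1, one_ne_zero, by rwa [one_smul]⟩
  have hsat : ∀ (c : W) v, c ≠ 0 → c • v ∈ Ks → v ∈ Ks := by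
    rintro c v hc ⟨d, hd, hdv⟩
    exact ⟨d * c, mul_ne_zero hd hc, by rwa [mul_smul]⟩
  have hfg : Ks.FG := FlatMisc.ValuationFP.fg_of_saturated Ks hsat
  -- Nakayama
  let N₀ : Submodule (MvPolynomial (Fin n) W) Ks := (KK K₀ W).comap Ks.subtype
  let X := Ks ⧸ N₀
  haveI : Module.Finite (MvPolynomial (Fin n) W) Ks := Module.Finite.iff_fg.2 hfg
  let L := Localization.AtPrime Q'
  let XQ := LocalizedModule Q'.primeCompl X
  haveI : Module.Finite L XQ := Module.Finite.of_isLocalizedModule Q'.primeCompl (LocalizedModule.mkLinearMap Q'.primeCompl X)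
  have htop : (⊤ : Submodule L XQ) ≤ IsLocalRing.maximalIdeal L • (⊤ : Submodule L XQ) := by
    intro z _
    obtain ⟨⟨q, t⟩, hz⟩ := IsLocalizedModule.surj Q'.primeCompl (LocalizedModule.mkLinearMap Q'.primeCompl X) z
    obtain ⟨v, rfl⟩ := Submodule.Quotient.mk_surjective _ q
    obtain ⟨c, hc, hcv⟩ := v.2
    obtain ⟨s, hs, hsv⟩ := exists_smul_mem_relBC K Q hc hcv
    obtain ⟨k, hk, y, hy, hky⟩ := Submodule.mem_sup.1 (hmod hsv)
    have hyKs : y ∈ Ks := by
      have : y = MvPolynomial.map (algebraMap R W) s • (v : V a n W) - k := by rw [← hky, add_sub_cancel_left]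
      rw [this]
      exact sub_mem (hKsle hsv) (hKsle (hKKle hk))
    have hsu : IsUnit (algebraMap (MvPolynomial (Fin n) W) L (MvPolynomial.map (algebraMap R W) s)) :=
      IsLocalization.map_units L (⟨_, fun h => hs (hQ'Q.le h)⟩ : Q'.primeCompl)
    let mk := LocalizedModule.mkLinearMap Q'.primeCompl X
    have hmem : mk (Submodule.Quotient.mk (⟨y, hyKs⟩ : Ks)) ∈ IsLocalRing.maximalIdeal L • (⊤ : Submodule L XQ) := by
      by_cases hy0 : y = 0
      · subst hy0
        rw [show (⟨0, hyKs⟩ : Ks) = 0 from rfl, Submodule.Quotient.mk_zero, map_zero]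
        exact zero_mem _
      obtain ⟨e, y', he, hy', i, d, hid⟩ := exists_common_factor hy0
      have hem : e ∈ IsLocalRing.maximalIdeal W := hid ▸ MvPolynomial.mem_map_C_iff.1 (mem_CJ.1 hy i) d
      have hy'Ks : y' ∈ Ks := hsat e y' he (hy' ▸ hyKs)
      have h5 : (⟨y, hyKs⟩ : Ks) = (C e : MvPolynomial (Fin n) W) • (⟨y', hy'Ks⟩ : Ks) :=
        Subtype.ext (by rw [Submodule.coe_smul, C_smul]; exact hy')
      rw [h5, Submodule.Quotient.mk_smul, map_smul, ← algebraMap_smul L (C e)]
      refine Submodule.smul_mem_smul ?_ Submodule.mem_top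
      rw [IsLocalization.AtPrime.to_map_mem_maximal_iff L Q', ← Ideal.mem_comap, hQ'C]
      exact hem
    have h6 : MvPolynomial.map (algebraMap R W) s • (Submodule.Quotient.mk v : X) = Submodule.Quotient.mk (⟨y, hyKs⟩ : Ks) := by
      rw [← Submodule.Quotient.mk_smul, Submodule.Quotient.eq]
      show MvPolynomial.map (algebraMap R W) s • (v : V a n W) - y ∈ KK K₀ W
      rw [← hky, add_sub_cancel_right]
      exact hk
    rw [← h6, map_smul, ← hz, Submonoid.smul_def, ← algebraMap_smul L (t : MvPolynomial (Fin n) W),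
      ← algebraMap_smul L (MvPolynomial.map (algebraMap R W) s)] at hmem
    exact (Submodule.smul_mem_iff_of_isUnit _ (IsLocalization.map_units L t)).1
      ((Submodule.smul_mem_iff_of_isUnit _ hsu).1 hmem)
  have hbot : (⊤ : Submodule L XQ) = ⊥ :=
    Submodule.eq_bot_of_le_smul_of_le_jacobson_bot _ ⊤ Module.Finite.fg_top htop (IsLocalRing.maximalIdeal_le_jacobson _)
  have hkill : ∀ v ∈ Ks, ∃ t ∉ Q', t • v ∈ KK K₀ W := by
    intro v hv
    have h0 : LocalizedModule.mkLinearMap Q'.primeCompl X (Submodule.Quotient.mk (⟨v, hv⟩ : Ks)) = 0 := by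
      rw [← Submodule.mem_bot L, ← hbot]; trivial
    obtain ⟨⟨t, ht⟩, htv⟩ := (IsLocalizedModule.eq_zero_iff Q'.primeCompl (LocalizedModule.mkLinearMap Q'.primeCompl X)).1 h0
    refine ⟨t, ht, ?_⟩
    rw [Submonoid.smul_def, ← Submodule.Quotient.mk_smul, Submodule.Quotient.mk_eq_zero] at htv
    exact htv
  -- conclusion
  intro J x hx hxJ
  by_cases hx0 : x = 0
  · exact ⟨1, one_mem _, by rw [hx0, smul_zero]; exact zero_mem _⟩
  obtain ⟨c, x', hc, hxc, i, d, hid⟩ := exists_common_factor hx0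
  have hcJ : c ∈ J := hid ▸ MvPolynomial.mem_map_C_iff.1 (mem_CJ.1 hxJ i) d
  obtain ⟨t, ht, htx⟩ := hkill x' ⟨c, hc, hxc ▸ hKKle hx⟩
  refine ⟨t, ht, ?_⟩
  rw [hxc, smul_comm, ← C_smul]
  exact Submodule.smul_mem_smul (Ideal.mem_map_of_mem _ hcJ) htx

/-- A finite module over a polynomial ring over a domain, flat at a point, is presented near it by
finitely many relations which cut out a flat module. -/
theorem exists_fp_nhd [IsDomain R] (K : Submodule (MvPolynomial (Fin n) R) (V a n R))
    (Q : Ideal (MvPolynomial (Fin n) R)) [Q.IsPrime]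
    (hflat : Module.Flat R (LocalizedModule Q.primeCompl (V a n R ⧸ K))) :
    ∃ g ∉ Q, ∃ G : Finset (V a n R), (G : Set (V a n R)) ⊆ K ∧
      (∀ w ∈ K, ∃ k : ℕ, g ^ k • w ∈ Submodule.span (MvPolynomial (Fin n) R) (G : Set (V a n R))) ∧
      Module.Flat R (LocalizedModule (Submonoid.powers g)
        (V a n R ⧸ Submodule.span (MvPolynomial (Fin n) R) (G : Set (V a n R)))) := by
  classical
  let p := Q.comap (C : R →+* MvPolynomial (Fin n) R)
  haveI : p.IsPrime := Ideal.IsPrime.comap _
  obtain ⟨G₁, hG₁, hfib₁⟩ := exists_fibre_gens (algebraMap R p.ResidueField) p (Ideal.ker_algebraMap_residueField p)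
    (fun k => by
      obtain ⟨z, rfl⟩ := IsLocalRing.residue_surjective k
      obtain ⟨r, ⟨s, hs⟩, rfl⟩ := IsLocalization.exists_mk'_eq p.primeCompl z
      refine ⟨s, hs, r, ?_⟩
      rw [IsScalarTower.algebraMap_apply R (Localization.AtPrime p) p.ResidueField,
        IsScalarTower.algebraMap_apply R (Localization.AtPrime p) p.ResidueField]
      show IsLocalRing.residue _ _ * IsLocalRing.residue _ _ = IsLocalRing.residue _ _
      rw [← map_mul, IsLocalization.mk'_spec' (Localization.AtPrime p) r ⟨s, hs⟩]) K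
  obtain ⟨G₂, hG₂, hfib₂⟩ := exists_fibre_gens (algebraMap R (FractionRing R)) ⊥
    ((RingHom.injective_iff_ker_eq_bot _).1 (IsFractionRing.injective R (FractionRing R)))
    (fun k => by
      obtain ⟨r, ⟨s, hs⟩, rfl⟩ := IsLocalization.exists_mk'_eq (nonZeroDivisors R) k
      exact ⟨s, fun h => nonZeroDivisors.ne_zero hs (Ideal.mem_bot.1 h), r, IsLocalization.mk'_spec' _ r ⟨s, hs⟩⟩) K
  let G := G₁ ∪ G₂
  let cs : Finset R := G.biUnion fun v => Finset.univ.biUnion fun i => (v i).coeffs
  let R₀ : Subalgebra ℤ R := Algebra.adjoin ℤ (cs : Set R)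
  haveI : Algebra.FiniteType ℤ R₀ := (Subalgebra.fg_iff_finiteType R₀).1 (Subalgebra.fg_adjoin_finset cs)
  haveI : IsNoetherianRing R₀ := Algebra.FiniteType.isNoetherianRing ℤ R₀
  have hdesc : ∀ v ∈ G, ∃ w : V a n R₀, mapV (algebraMap R₀ R) w = v := by
    intro v hv
    have : ∀ i, ∃ q : MvPolynomial (Fin n) R₀, MvPolynomial.map (algebraMap R₀ R) q = v i := fun i =>
      MvPolynomial.mem_range_map_iff_coeffs_subset.2 fun x hx =>
        ⟨⟨x, Algebra.subset_adjoin (Finset.mem_biUnion.2 ⟨v, hv, Finset.mem_biUnion.2 ⟨i, Finset.mem_univ _, hx⟩⟩)⟩, rfl⟩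
    choose w hw using this
    exact ⟨w, funext hw⟩
  choose! lv hlv using hdesc
  let K₀ : Submodule (MvPolynomial (Fin n) R₀) (V a n R₀) := Submodule.span _ (lv '' G)
  have hKK : KK K₀ R = Submodule.span (MvPolynomial (Fin n) R) (G : Set (V a n R)) := by
    refine le_antisymm ?_ (Submodule.span_le.2 fun v hv =>
      Submodule.subset_span ⟨lv v, Submodule.subset_span ⟨v, hv, rfl⟩, hlv v hv⟩)
    rw [KK, Submodule.span_le]
    rintro _ ⟨w, hw, rfl⟩
    refine Submodule.span_le.2 ?_ (mapV_mem_span (algebraMap R₀ R) hw)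
    rintro _ ⟨w, ⟨v, hv, rfl⟩, rfl⟩
    rw [hlv v hv]
    exact Submodule.subset_span hv
  have hGK : (G : Set (V a n R)) ⊆ K := by
    rw [Finset.coe_union]; exact Set.union_subset hG₁ hG₂
  have hmono : ∀ {H : Finset (V a n R)}, H ⊆ G →
      Submodule.span (MvPolynomial (Fin n) R) (H : Set (V a n R)) ≤ KK K₀ R := fun h =>
    hKK ▸ Submodule.span_mono (Finset.coe_subset.2 h)
  have hpt : PtFlat K₀ R Q.primeCompl := by
    refine ptFlat_of_valuationRing K₀ Q fun W _ _ _ _ ψ Q' _ hQ'Q hQ'C =>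
      ptFlat_valuation K₀ K (hKK ▸ Submodule.span_le.2 hGK) Q (fun w hw => ?_) W ψ Q' hQ'Q hQ'C
    obtain ⟨s, hs, u, hu, h⟩ := hfib₁ w hw
    exact ⟨s, hs, u, hmono Finset.subset_union_left hu, h⟩
  obtain ⟨g, hg, hgflat⟩ := exists_ptFlat_powers K₀ Q hpt
  refine ⟨g, hg, G, hGK, fun w hw => ?_, ?_⟩
  · obtain ⟨s, hs, u, hu, hsu⟩ := hfib₂ w hw
    have hs0 : s ≠ 0 := fun h => hs (by rw [h]; exact Ideal.zero_mem _)
    have h1 : s • w = u := by
      funext i
      ext d
      have := Ideal.mem_bot.1 (MvPolynomial.mem_map_C_iff.1 (mem_CJ.1 hsu i) d)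
      rwa [Pi.sub_apply, coeff_sub, sub_eq_zero] at this
    have h2 : s • w ∈ CJ a n (Ideal.span {s}) := mem_CJ.2 fun i => by
      rw [← C_smul]
      exact Ideal.mul_mem_right _ _ (Ideal.mem_map_of_mem _ (Ideal.mem_span_singleton_self s))
    obtain ⟨_, ⟨k, rfl⟩, hk⟩ := hgflat (Ideal.span {s}) (s • w) (h1 ▸ hmono Finset.subset_union_right hu) h2
    refine ⟨k, ?_⟩
    rw [Ideal.map_span, Set.image_singleton, Submodule.ideal_span_singleton_smul] at hk
    obtain ⟨z, hz, hzk⟩ := (Submodule.mem_smul_pointwise_iff_exists _ _ _).1 hk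
    rw [C_smul, smul_comm (g ^ k) s w] at hzk
    have h3 : g ^ k • w = z := by
      funext i
      ext d
      have := congrArg (fun q : MvPolynomial (Fin n) R => q.coeff d) (congrFun hzk i)
      simp only [Pi.smul_apply, coeff_smul, smul_eq_mul] at this
      exact (mul_left_cancel₀ hs0 this).symm
    rw [h3, ← hKK]
    exact hz
  · rw [flat_localized_iff (Submonoid.powers g) (LocalizedModule.mkLinearMap (Submonoid.powers g) _),
      ← ptFlat_iff K₀ (Submonoid.powers g) (Submodule.span (MvPolynomial (Fin n) R) (G : Set (V a n R))).mkQ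
        (Submodule.mkQ_surjective _) (by rw [Submodule.ker_mkQ, hKK])]
    exact hgflat

end Groth.Agent.FlatValCrit
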