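import Mathlib
import Groth.Agent.FlatValCrit.RG

/-!
# Raynaud–Gruson over a domain, global statements

A finite module over a finite type algebra over a domain which is flat over the domain is finitely
presented, and flatness of such a module spreads out from a point.
-/

universe u
set_option autoImplicit false

open TensorProduct

namespace Groth.Agent.FlatValCrit

open MvPolynomial Groth.Agent.FlatModel

/-- Localisations of a flat module are flat. -/
theorem flat_localizedModule {R S M : Type u} [CommRing R] [CommRing S] [Algebra R S]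
    [AddCommGroup M] [Module R M] [Module S M] [IsScalarTower R S M] [Module.Flat R M] (W : Submonoid S) :
    Module.Flat R (LocalizedModule W M) := by
  refine (flat_localized_iff W (LocalizedModule.mkLinearMap W M)).2 fun J y hy => ⟨1, one_mem _, ?_⟩
  rw [Module.Flat.iff_lTensor_injective'.1 ‹_› J (hy.trans (map_zero _).symm), smul_zero]

/-- Localising at a submonoid of `S` or at its preimage gives the same flatness. -/
theorem flat_localized_comap {R P S M : Type u} [CommRing R] [CommRing P] [CommRing S] [Algebra R P] [Algebra R S]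
    [Algebra P S] [IsScalarTower R P S] (hPS : Function.Surjective (algebraMap P S))
    [AddCommGroup M] [Module R M] [Module S M] [Module P M] [IsScalarTower R S M] [IsScalarTower R P M]
    [IsScalarTower P S M] (W : Submonoid S) :
    Module.Flat R (LocalizedModule W M) ↔ Module.Flat R (LocalizedModule (W.comap (algebraMap P S)) M) := by
  rw [flat_localized_iff W (LocalizedModule.mkLinearMap W M),
    flat_localized_iff (W.comap (algebraMap P S)) (LocalizedModule.mkLinearMap _ M)]
  have hsmul : ∀ (J : Ideal R) (p : P) (y : M ⊗[R] J), algebraMap P S p • y = p • y := by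
    intro J p y
    induction y using TensorProduct.induction_on with
    | zero => simp
    | tmul m j => rw [smul_tmul', smul_tmul', algebraMap_smul]
    | add y z hy hz => rw [smul_add, smul_add, hy, hz]
  refine forall₂_congr fun J y => imp_congr_right fun _ => ⟨?_, ?_⟩
  · rintro ⟨s, hs, hsy⟩
    obtain ⟨p, rfl⟩ := hPS s
    exact ⟨p, hs, (hsmul J p y) ▸ hsy⟩
  · rintro ⟨p, hp, hpy⟩
    exact ⟨_, hp, (hsmul J p y).trans hpy⟩

/-- A surjection whose kernel is killed by the submonoid preserves flatness of the localisation. -/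
theorem flat_localized_of_surjective {R P M' M : Type u} [CommRing R] [CommRing P] [Algebra R P]
    [AddCommGroup M'] [Module R M'] [Module P M'] [IsScalarTower R P M']
    [AddCommGroup M] [Module R M] [Module P M] [IsScalarTower R P M]
    (f : M' →ₗ[P] M) (hf : Function.Surjective f) (W : Submonoid P)
    (hker : ∀ x, f x = 0 → ∃ s ∈ W, s • x = 0) (h : Module.Flat R (LocalizedModule W M')) :
    Module.Flat R (LocalizedModule W M) := by
  rw [flat_localized_iff W (LocalizedModule.mkLinearMap W _)] at h ⊢
  intro J y hy
  let F : M' ⊗[R] J →ₗ[P] M ⊗[R] J := AlgebraTensorModule.rTensor R J f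
  obtain ⟨y', rfl⟩ : ∃ y', F y' = y := LinearMap.rTensor_surjective J (show Function.Surjective (f.restrictScalars R) from hf) y
  have hcomm : ∀ z : M' ⊗[R] J, TensorProduct.rid R M (J.subtype.lTensor M (F z)) =
      f (TensorProduct.rid R M' (J.subtype.lTensor M' z)) := by
    intro z
    induction z using TensorProduct.induction_on with
    | zero => simp
    | tmul m j => simp [F]
    | add y z hy hz => simp only [map_add, hy, hz]
  obtain ⟨s, hs, hsx⟩ := hker (TensorProduct.rid R M' (J.subtype.lTensor M' y')) (by rw [← hcomm, hy, map_zero])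
  have h2 : J.subtype.lTensor M' (s • y') = 0 := by
    have h3 : ∀ z : M' ⊗[R] J, TensorProduct.rid R M' (J.subtype.lTensor M' (s • z)) =
        s • TensorProduct.rid R M' (J.subtype.lTensor M' z) := by
      intro z
      induction z using TensorProduct.induction_on with
      | zero => simp
      | tmul m j => simp [smul_tmul', smul_comm s]
      | add y z hy hz => simp only [map_add, smul_add, hy, hz]
    apply (TensorProduct.rid R M').injective
    rw [h3, hsx, map_zero]
  obtain ⟨t, ht, hty⟩ := h J (s • y') h2
  exact ⟨t * s, mul_mem ht hs, by rw [← map_smul, mul_smul, hty, map_zero]⟩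

variable {a n : ℕ} {R : Type u} [CommRing R]

/-- Relations of a flat module over a domain are finitely generated. -/
theorem fg_of_flat [IsDomain R] (K : Submodule (MvPolynomial (Fin n) R) (V a n R))
    (h : Module.Flat R (V a n R ⧸ K)) : K.FG := by
  classical
  choose g hg G hGK hG _ using fun Q : PrimeSpectrum (MvPolynomial (Fin n) R) =>
    exists_fp_nhd K Q.asIdeal (flat_localizedModule _)
  have htop : Ideal.span (Set.range g) = ⊤ := by
    by_contra hne
    obtain ⟨m, hm, hle⟩ := Ideal.exists_le_maximal _ hne
    exact hg ⟨m, hm.isPrime⟩ (hle (Ideal.subset_span ⟨_, rfl⟩))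
  obtain ⟨t, ht, hspan⟩ := (Ideal.span_eq_top_iff_finite _).1 htop
  choose Q hQ using fun x : t => ht x.2
  refine ⟨Finset.univ.biUnion fun x => G (Q x), le_antisymm ?_ fun w hw => ?_⟩
  · refine Submodule.span_le.2 fun v hv => ?_
    obtain ⟨x, -, hx⟩ := Finset.mem_biUnion.1 hv
    exact hGK _ hx
  · refine Submodule.mem_of_span_eq_top_of_smul_pow_mem _ _ hspan w fun x => ?_
    obtain ⟨k, hk⟩ := hG (Q ⟨x, x.2⟩) w hw
    refine ⟨k, ?_⟩
    rw [hQ ⟨x, x.2⟩] at hk
    refine Submodule.span_mono (fun v hv => ?_) hk
    exact Finset.mem_biUnion.2 ⟨⟨x, x.2⟩, Finset.mem_univ _, hv⟩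

section module

variable {S M : Type u} [CommRing S] [Algebra R S] [Algebra.FiniteType R S] [AddCommGroup M] [Module S M]
  [Module R M] [IsScalarTower R S M] [Module.Finite S M] [IsDomain R]

/-- Finite flat modules over finite type algebras over domains are finitely presented. -/
theorem finitePresentation_of_flat [Module.Flat R M] : Module.FinitePresentation S M := by
  classical
  obtain ⟨n, φ, hφ⟩ := Algebra.FiniteType.iff_quotient_mvPolynomial''.1 ‹Algebra.FiniteType R S›
  letI := φ.toRingHom.toAlgebra
  letI := Module.compHom M φ.toRingHom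
  haveI : IsScalarTower (MvPolynomial (Fin n) R) S M := ⟨fun p s m => mul_smul (φ p) s m⟩
  haveI : IsScalarTower R (MvPolynomial (Fin n) R) M := ⟨fun r p m => by
    show φ (r • p) • m = r • φ p • m
    rw [map_smul, smul_assoc]⟩
  haveI : IsScalarTower R (MvPolynomial (Fin n) R) S := IsScalarTower.of_algebraMap_eq fun r => (φ.commutes r).symm
  haveI : Module.Finite (MvPolynomial (Fin n) R) S := Module.Finite.of_surjective (Algebra.linearMap _ S) hφ
  haveI : Module.Finite (MvPolynomial (Fin n) R) M := Module.Finite.trans S M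
  obtain ⟨a, π, hπ⟩ := Module.Finite.exists_fin' (MvPolynomial (Fin n) R) M
  let e := LinearMap.quotKerEquivOfSurjective π hπ
  haveI : Module.Flat R (V a n R ⧸ LinearMap.ker π) := Module.Flat.of_linearEquiv (e.restrictScalars R)
  haveI : Module.FinitePresentation (MvPolynomial (Fin n) R) M :=
    Module.finitePresentation_of_surjective π hπ (fg_of_flat (LinearMap.ker π) inferInstance)
  let l : S ⊗[MvPolynomial (Fin n) R] M →ₗ[S] M := LinearMap.liftBaseChange S LinearMap.id
  have hl : Function.Bijective l := by
    refine ⟨Function.LeftInverse.injective (g := fun m => (1 : S) ⊗ₜ m) fun z => ?_, fun m => ⟨1 ⊗ₜ m, by simp [l]⟩⟩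
    induction z using TensorProduct.induction_on with
    | zero => simp
    | tmul s m =>
      obtain ⟨p, rfl⟩ := hφ s
      show (1 : S) ⊗ₜ[MvPolynomial (Fin n) R] (φ p • LinearMap.id m) = φ p ⊗ₜ m
      rw [LinearMap.id_apply, show φ p • m = p • m from rfl, ← TensorProduct.smul_tmul, Algebra.smul_def, mul_one]
      rfl
    | add y z hy hz => simp only [map_add, tmul_add] at hy hz ⊢; rw [hy, hz]
  exact Module.FinitePresentation.of_equiv (LinearEquiv.ofBijective l hl)

/-- Flatness spreads out from a point. -/
theorem exists_flat_nhd_of_domain (q : Ideal S) [q.IsPrime] (h : Module.Flat R (LocalizedModule q.primeCompl M)) :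
    ∃ g ∉ q, ∀ q' : Ideal S, ∀ [q'.IsPrime], g ∉ q' → Module.Flat R (LocalizedModule q'.primeCompl M) := by
  classical
  obtain ⟨n, φ, hφ⟩ := Algebra.FiniteType.iff_quotient_mvPolynomial''.1 ‹Algebra.FiniteType R S›
  letI := φ.toRingHom.toAlgebra
  letI := Module.compHom M φ.toRingHom
  haveI : IsScalarTower (MvPolynomial (Fin n) R) S M := ⟨fun p s m => mul_smul (φ p) s m⟩
  haveI : IsScalarTower R (MvPolynomial (Fin n) R) M := ⟨fun r p m => by
    show φ (r • p) • m = r • φ p • m
    rw [map_smul, smul_assoc]⟩
  haveI : IsScalarTower R (MvPolynomial (Fin n) R) S := IsScalarTower.of_algebraMap_eq fun r => (φ.commutes r).symm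
  haveI : Module.Finite (MvPolynomial (Fin n) R) S := Module.Finite.of_surjective (Algebra.linearMap _ S) hφ
  haveI : Module.Finite (MvPolynomial (Fin n) R) M := Module.Finite.trans S M
  obtain ⟨a, π, hπ⟩ := Module.Finite.exists_fin' (MvPolynomial (Fin n) R) M
  let Q : Ideal (MvPolynomial (Fin n) R) := q.comap φ
  have hP : Module.Flat R (LocalizedModule Q.primeCompl M) :=
    (flat_localized_comap (P := MvPolynomial (Fin n) R) hφ q.primeCompl).1 h
  let e := LinearMap.quotKerEquivOfSurjective π hπ
  have hK : Module.Flat R (LocalizedModule Q.primeCompl (V a n R ⧸ LinearMap.ker π)) :=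
    flat_localized_of_surjective e.symm.toLinearMap e.symm.surjective _
      (fun x hx => ⟨1, one_mem _, by rw [one_smul]; exact e.symm.injective (hx.trans (map_zero _).symm)⟩) hP
  obtain ⟨g, hg, G, hGK, hGpow, hGflat⟩ := exists_fp_nhd (LinearMap.ker π) Q hK
  refine ⟨φ g, hg, fun q' _ hg' => ?_⟩
  rw [flat_localized_comap (P := MvPolynomial (Fin n) R) hφ q'.primeCompl]
  have hle : Submonoid.powers g ≤ q'.primeCompl.comap (algebraMap (MvPolynomial (Fin n) R) S) :=
    Submonoid.powers_le.2 hg'
  let H := Submodule.span (MvPolynomial (Fin n) R) (G : Set (V a n R))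
  have hHle : H ≤ LinearMap.ker π := Submodule.span_le.2 hGK
  refine flat_localized_of_surjective (H.liftQ π hHle) ?_ _ ?_ ?_
  · intro m
    obtain ⟨v, rfl⟩ := hπ m
    exact ⟨Submodule.Quotient.mk v, rfl⟩
  · intro x hx
    obtain ⟨v, rfl⟩ := Submodule.Quotient.mk_surjective _ x
    obtain ⟨k, hk⟩ := hGpow v (LinearMap.mem_ker.2 hx)
    exact ⟨g ^ k, hle ⟨k, rfl⟩, by rw [← Submodule.Quotient.mk_smul, Submodule.Quotient.mk_eq_zero]; exact hk⟩
  · rw [flat_localized_iff (Submonoid.powers g) (LocalizedModule.mkLinearMap (Submonoid.powers g) _)] at hGflat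
    rw [flat_localized_iff (q'.primeCompl.comap (algebraMap (MvPolynomial (Fin n) R) S))
      (LocalizedModule.mkLinearMap (q'.primeCompl.comap (algebraMap (MvPolynomial (Fin n) R) S)) _)]
    intro J y hy
    obtain ⟨s, hs, hsy⟩ := hGflat J y hy
    exact ⟨s, hle hs, hsy⟩

end module

end Groth.Agent.FlatValCrit
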