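import Mathlib
import Groth.Agent.FlatValCrit.RG

/-!
# Flat modules of finite type which are finitely presented over a dense open of the base

A finite module over a polynomial ring, flat over the base, whose relations are finitely generated
after inverting each of finitely many elements which are jointly dense, has finitely generated
relations.
-/

universe u
set_option autoImplicit false

open TensorProduct

namespace Groth.Agent.FlatValCrit

open MvPolynomial Groth.Agent.FlatModel

variable {a n : ℕ}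

/-- Witnessed flatness holds over every ring receiving the witness. -/
theorem ptFlat_of_witness {R₀ : Type u} [CommRing R₀] [IsNoetherianRing R₀]
    (K₀ : Submodule (MvPolynomial (Fin n) R₀) (V a n R₀)) {A : Type u} [CommRing A] [Algebra R₀ A]
    (hA : Algebra.FiniteType R₀ A) (g₁ : MvPolynomial (Fin n) A)
    (h : ∀ (R' : Type u) [CommRing R'] [IsNoetherianRing R'] [Algebra R₀ R'] (ψ : A →ₐ[R₀] R'),
      PtFlat K₀ R' (Submonoid.powers (MvPolynomial.map ψ.toRingHom g₁)))
    (R' : Type u) [CommRing R'] [Algebra R₀ R'] (ψ : A →ₐ[R₀] R') :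
    PtFlat K₀ R' (Submonoid.powers (MvPolynomial.map ψ.toRingHom g₁)) := by
  classical
  intro J x hx hxJ
  obtain ⟨R₂, hR₂, x₂, hx₂, hx₂x⟩ := exists_fg_span_descent hx
  let R₃ := ψ.range ⊔ R₂
  have hR₃ : R₃.FG := by
    refine Subalgebra.FG.sup ?_ hR₂
    rw [← Algebra.map_top]
    exact hA.out.map ψ
  haveI : Algebra.FiniteType R₀ R₃ := (Subalgebra.fg_iff_finiteType R₃).1 hR₃
  haveI : IsNoetherianRing R₃ := Algebra.FiniteType.isNoetherianRing R₀ R₃
  let ψ₃ : A →ₐ[R₀] R₃ := ψ.codRestrict R₃ fun c => (le_sup_left : ψ.range ≤ R₃) ⟨c, rfl⟩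
  let x₃ := mapV (Subalgebra.inclusion (le_sup_right : R₂ ≤ R₃)).toRingHom x₂
  have hx₃x : mapV R₃.val.toRingHom x₃ = x := by rw [mapV_val_inclusion, hx₂x]
  let J₃ : Ideal R₃ := J.comap R₃.val.toRingHom
  have hx₃J : x₃ ∈ CJ a n J₃ := mem_CJ.2 fun i => MvPolynomial.mem_map_C_iff.2 fun d => by
    have := MvPolynomial.mem_map_C_iff.1 (mem_CJ.1 hxJ i) d
    rw [← hx₃x, mapV_apply, MvPolynomial.coeff_map] at this
    exact this
  obtain ⟨_, ⟨m, rfl⟩, hm⟩ := h R₃ ψ₃ J₃ x₃ (span_mono_subalgebra le_sup_right hx₂) hx₃J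
  refine ⟨_, ⟨m, rfl⟩, ?_⟩
  have hg : MvPolynomial.map R₃.val.toRingHom (MvPolynomial.map ψ₃.toRingHom g₁) = MvPolynomial.map ψ.toRingHom g₁ := by
    rw [MvPolynomial.map_map]; rfl
  have := smul_KK_le_closure K₀ J₃ hm
  show (MvPolynomial.map ψ.toRingHom g₁) ^ m • x ∈ _
  rw [← hx₃x, ← hg, ← map_pow, ← mapV_smul]
  clear hm
  generalize MvPolynomial.map ψ₃.toRingHom g₁ ^ m • x₃ = y at this ⊢
  induction this using AddSubmonoid.closure_induction with
  | mem y hy =>
    obtain ⟨r, hr, w, hw, rfl⟩ := hy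
    rw [← C_smul, mapV_smul, MvPolynomial.map_C]
    exact Submodule.smul_mem_smul (Ideal.mem_map_of_mem _ hr)
      (show mapV _ (mapV _ w) ∈ _ from (mapV_algebraMap R₃.val w).symm ▸ mapL_mem_KK K₀ hw)
  | zero => rw [mapV_zero]; exact zero_mem _
  | add y z _ _ hy hz => rw [mapV_add]; exact add_mem hy hz

variable {R : Type u} [CommRing R]

/-- Finitely many relations are defined over a Noetherian subring. -/
theorem exists_descent (G : Finset (V a n R)) :
    ∃ R₀ : Subalgebra ℤ R, IsNoetherianRing R₀ ∧ ∃ K₀ : Submodule (MvPolynomial (Fin n) R₀) (V a n R₀),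
      KK K₀ R = Submodule.span (MvPolynomial (Fin n) R) (G : Set (V a n R)) := by
  classical
  let cs : Finset R := G.biUnion fun v => Finset.univ.biUnion fun i => (v i).coeffs
  let R₀ : Subalgebra ℤ R := Algebra.adjoin ℤ (cs : Set R)
  haveI : Algebra.FiniteType ℤ R₀ := (Subalgebra.fg_iff_finiteType R₀).1 (Subalgebra.fg_adjoin_finset cs)
  haveI : IsNoetherianRing R₀ := Algebra.FiniteType.isNoetherianRing ℤ R₀
  have hdesc : ∀ v ∈ G, ∃ w : V a n R₀, mapV (algebraMap R₀ R) w = v := by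
    intro v hv
    have : ∀ i, ∃ q : MvPolynomial (Fin n) R₀, MvPolynomial.map (algebraMap R₀ R) q = v i := fun i =>
      MvPolynomial.mem_range_map_iff_coeffs_subset.2 fun x hx =>
        ⟨⟨x, Algebra.subset_adjoin (Finset.mem_biUnion.2 ⟨v, hv, Finset.mem_biUnion.2 ⟨i, Finset.mem_univ _, hx⟩⟩)⟩, rfl⟩
    choose w hw using this
    exact ⟨w, funext hw⟩
  choose! lv hlv using hdesc
  refine ⟨R₀, inferInstance, Submodule.span _ (lv '' G), le_antisymm ?_ (Submodule.span_le.2 fun v hv =>
    Submodule.subset_span ⟨lv v, Submodule.subset_span ⟨v, hv, rfl⟩, hlv v hv⟩)⟩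
  rw [KK, Submodule.span_le]
  rintro _ ⟨w, hw, rfl⟩
  refine Submodule.span_le.2 ?_ (mapV_mem_span (algebraMap R₀ R) hw)
  rintro _ ⟨w, ⟨v, hv, rfl⟩, rfl⟩
  rw [hlv v hv]
  exact Submodule.subset_span hv

/-- For a flat quotient, relations divisible by an ideal are in that ideal times the relations. -/
theorem mem_smul_of_flat (K : Submodule (MvPolynomial (Fin n) R) (V a n R)) [Module.Flat R (V a n R ⧸ K)]
    (J : Ideal R) {v : V a n R} (hv : v ∈ K) (hvJ : v ∈ CJ a n J) :
    v ∈ (J.map C : Ideal (MvPolynomial (Fin n) R)) • K := by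
  have hKK : KK K R = K := by
    refine le_antisymm (Submodule.span_le.2 ?_) fun w hw => Submodule.subset_span ⟨w, hw, ?_⟩
    · rintro _ ⟨w, hw, rfl⟩
      rwa [show mapV (algebraMap R R) w = w from funext fun i => by simp [MvPolynomial.map_id]]
    · exact funext fun i => by simp [MvPolynomial.map_id]
  have h : PtFlat K R (⊥ : Submonoid (MvPolynomial (Fin n) R)) :=
    (ptFlat_iff K ⊥ K.mkQ K.mkQ_surjective (by rw [Submodule.ker_mkQ, hKK])).2 fun J y hy => ⟨1, one_mem _, by
      rw [Module.Flat.iff_lTensor_injective'.1 ‹_› J (hy.trans (map_zero _).symm), smul_zero]⟩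
  obtain ⟨s, hs, hsv⟩ := h J v (hKK.symm ▸ hv) hvJ
  rw [Submonoid.mem_bot.1 hs, one_smul, hKK] at hsv
  exact hsv

/-- Flatness of a relation module which is finitely generated over a dense union of basic opens
forces it to be finitely generated near every point. -/
theorem exists_fp_nhd_of_dense (F : Finset R) (hF : ∀ r : R, (∀ f ∈ F, ∃ k : ℕ, f ^ k * r = 0) → r = 0)
    (K : Submodule (MvPolynomial (Fin n) R) (V a n R)) [Module.Flat R (V a n R ⧸ K)]
    (hloc : ∀ f ∈ F, ∃ G : Finset (V a n R), (G : Set (V a n R)) ⊆ K ∧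
      ∀ w ∈ K, ∃ k : ℕ, f ^ k • w ∈ Submodule.span (MvPolynomial (Fin n) R) (G : Set (V a n R)))
    (Q : Ideal (MvPolynomial (Fin n) R)) [Q.IsPrime] :
    ∃ g ∉ Q, ∃ G : Finset (V a n R), (G : Set (V a n R)) ⊆ K ∧
      ∀ w ∈ K, ∃ k : ℕ, g ^ k • w ∈ Submodule.span (MvPolynomial (Fin n) R) (G : Set (V a n R)) := by
  classical
  let p := Q.comap (C : R →+* MvPolynomial (Fin n) R)
  haveI : p.IsPrime := Ideal.IsPrime.comap _
  obtain ⟨G₁, hG₁, hfib₁⟩ := exists_fibre_gens (algebraMap R p.ResidueField) p (Ideal.ker_algebraMap_residueField p)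
    (fun k => by
      obtain ⟨z, rfl⟩ := IsLocalRing.residue_surjective k
      obtain ⟨r, ⟨s, hs⟩, rfl⟩ := IsLocalization.exists_mk'_eq p.primeCompl z
      refine ⟨s, hs, r, ?_⟩
      rw [IsScalarTower.algebraMap_apply R (Localization.AtPrime p) p.ResidueField,
        IsScalarTower.algebraMap_apply R (Localization.AtPrime p) p.ResidueField]
      show IsLocalRing.residue _ _ * IsLocalRing.residue _ _ = IsLocalRing.residue _ _
      rw [← map_mul, IsLocalization.mk'_spec' (Localization.AtPrime p) r ⟨s, hs⟩]) K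
  choose! Gf hGfK hGf using hloc
  let G := G₁ ∪ F.biUnion Gf
  have hGK : (G : Set (V a n R)) ⊆ K := by
    intro v hv
    rcases Finset.mem_union.1 hv with h | h
    · exact hG₁ h
    · obtain ⟨f, hf, hv⟩ := Finset.mem_biUnion.1 h
      exact hGfK f hf hv
  obtain ⟨R₀, hR₀, K₀, hKK⟩ := exists_descent G
  have hR₀' := hR₀
  have hmono : ∀ {H : Finset (V a n R)}, H ⊆ G →
      Submodule.span (MvPolynomial (Fin n) R) (H : Set (V a n R)) ≤ KK K₀ R := fun h =>
    hKK ▸ Submodule.span_mono (Finset.coe_subset.2 h)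
  -- flatness modulo the nilradical
  let R' := R ⧸ nilradical R
  haveI : _root_.IsReduced R' := (Ideal.isRadical_iff_quotient_reduced _).1 (Ideal.radical_isRadical _)
  let π : R →ₐ[R₀] R' := Ideal.Quotient.mkₐ R₀ _
  have hπ : Function.Surjective π := Ideal.Quotient.mkₐ_surjective R₀ _
  have hker : RingHom.ker (MvPolynomial.map (σ := Fin n) π.toRingHom) ≤ Q := by
    intro f hf
    have hnil : IsNilpotent f := MvPolynomial.isNilpotent_iff.2 fun d => by
      have h1 := congrArg (fun q : MvPolynomial (Fin n) R' => q.coeff d) (RingHom.mem_ker.1 hf)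
      simp only [MvPolynomial.coeff_map, MvPolynomial.coeff_zero] at h1
      exact mem_nilradical.1 (Ideal.Quotient.eq_zero_iff_mem.1 h1)
    exact nilradical_le_prime Q (mem_nilradical.2 hnil)
  have hsurj : Function.Surjective (MvPolynomial.map (σ := Fin n) π.toRingHom) := MvPolynomial.map_surjective _ hπ
  let Qr := Q.map (MvPolynomial.map π.toRingHom)
  haveI : Qr.IsPrime := Ideal.map_isPrime_of_surjective hsurj hker
  have hQr : Qr.comap (MvPolynomial.map π.toRingHom) = Q := by
    rw [Ideal.comap_map_of_surjective _ hsurj, sup_eq_left]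
    exact hker
  have hpt : PtFlat K₀ R' Qr.primeCompl := by
    refine ptFlat_of_valuationRing K₀ Qr fun W _ _ _ _ ψ Q' _ hQ'Q hQ'C => ?_
    haveI := flat_localized_iff (M := V a n R ⧸ K) Q.primeCompl (LocalizedModule.mkLinearMap Q.primeCompl _) |>.2
      fun J y hy => ⟨1, one_mem _, by
        rw [Module.Flat.iff_lTensor_injective'.1 ‹_› J (hy.trans (map_zero _).symm), smul_zero]⟩
    refine ptFlat_valuation K₀ K (hKK ▸ Submodule.span_le.2 hGK) Q (fun w hw => ?_) W (ψ.comp π) Q' ?_ hQ'C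
    · obtain ⟨s, hs, u, hu, h⟩ := hfib₁ w hw
      exact ⟨s, hs, u, hmono Finset.subset_union_left hu, h⟩
    · rw [← hQr, ← hQ'Q, Ideal.comap_comap]
      congr 1
      exact RingHom.ext fun f => (MvPolynomial.map_map π.toRingHom ψ.toRingHom f).symm
  obtain ⟨R₁, hR₁, g₁, hg₁, hwit⟩ := exists_witness K₀ Qr hpt
  -- lift the witness
  obtain ⟨t, ht⟩ := hR₁
  choose l hl using hπ
  let A : Subalgebra R₀ R := Algebra.adjoin R₀ (t.image l : Set R)
  haveI : Algebra.FiniteType R₀ A := (Subalgebra.fg_iff_finiteType A).1 (Subalgebra.fg_adjoin_finset _)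
  haveI : IsNoetherianRing A := Algebra.FiniteType.isNoetherianRing R₀ A
  have hAR₁ : A.map π = R₁ := by
    rw [AlgHom.map_adjoin, Finset.coe_image, Set.image_image, ← ht]
    congr 1
    simp [hl]
  let pA : A →ₐ[R₀] R₁ := (π.comp A.val).codRestrict R₁ fun c => hAR₁.le ⟨c, c.2, rfl⟩
  have hpA : Function.Surjective pA := by
    rintro ⟨c, hc⟩
    obtain ⟨b, hb, rfl⟩ := hAR₁.ge hc
    exact ⟨⟨b, hb⟩, rfl⟩
  let J : Ideal R := (RingHom.ker pA).map A.val.toRingHom
  have hJnil : J ≤ nilradical R := Ideal.map_le_iff_le_comap.2 fun c hc => by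
    rw [Ideal.mem_comap]
    exact Ideal.Quotient.eq_zero_iff_mem.1 (congrArg Subtype.val (RingHom.mem_ker.1 hc))
  obtain ⟨N, hN⟩ : IsNilpotent J :=
    ((Ideal.FG.isNilpotent_iff_le_nilradical (Ideal.FG.map (IsNoetherian.noetherian (RingHom.ker pA)) _)).2 hJnil)
  let I : Ideal R :=
    { carrier := {r | ∀ f ∈ F, ∃ k : ℕ, f ^ k * r ∈ J}
      add_mem' := fun {r r'} hr hr' f hf => by
        obtain ⟨k, hk⟩ := hr f hf
        obtain ⟨k', hk'⟩ := hr' f hf
        refine ⟨k + k', ?_⟩
        rw [mul_add, pow_add]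
        exact add_mem (by rw [mul_comm (f ^ k), mul_assoc]; exact J.mul_mem_left _ hk)
          (by rw [mul_assoc]; exact J.mul_mem_left _ hk')
      zero_mem' := fun f _ => ⟨0, by simp⟩
      smul_mem' := fun c r hr f hf => by
        obtain ⟨k, hk⟩ := hr f hf
        exact ⟨k, by rw [smul_eq_mul, mul_left_comm]; exact J.mul_mem_left _ hk⟩ }
  have hJI : J ≤ I := fun r hr f _ => ⟨0, by simpa using hr⟩
  have hIpow : ∀ j : ℕ, ∀ r ∈ I ^ j, ∀ f ∈ F, ∃ k : ℕ, f ^ k * r ∈ J ^ j := by
    intro j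
    induction j with
    | zero => exact fun r _ f _ => ⟨0, by simp⟩
    | succ j ih =>
      intro r hr f hf
      rw [pow_succ] at hr
      induction hr using Submodule.mul_induction_on' with
      | mem_mul_mem x hx y hy =>
        obtain ⟨k, hk⟩ := ih x hx f hf
        obtain ⟨k', hk'⟩ := hy f hf
        refine ⟨k + k', ?_⟩
        rw [pow_succ, pow_add f, mul_mul_mul_comm]
        exact Ideal.mul_mem_mul hk hk'
      | add x _ y _ hx hy =>
        obtain ⟨k, hk⟩ := hx
        obtain ⟨k', hk'⟩ := hy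
        refine ⟨k + k', ?_⟩
        rw [mul_add, pow_add f]
        exact add_mem (by rw [mul_comm (f ^ k), mul_assoc]; exact Ideal.mul_mem_left _ _ hk)
          (by rw [mul_assoc]; exact Ideal.mul_mem_left _ _ hk')
  have hIN : I ^ N = ⊥ := by
    rw [eq_bot_iff]
    intro r hr
    refine Ideal.mem_bot.2 (hF r fun f hf => ?_)
    obtain ⟨k, hk⟩ := hIpow N r hr f hf
    rw [hN] at hk
    exact ⟨k, Ideal.mem_bot.1 hk⟩
  -- flatness modulo `I`
  let RI := R ⧸ I
  let πI : R →ₐ[R₀] RI := Ideal.Quotient.mkₐ R₀ I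
  let ψ : R₁ →ₐ[R₀] RI := AlgHom.liftOfSurjective pA hpA (πI.comp A.val) fun c hc =>
    RingHom.mem_ker.2 (Ideal.Quotient.eq_zero_iff_mem.2 (hJI (Ideal.mem_map_of_mem _ hc)))
  obtain ⟨g', hg'⟩ := MvPolynomial.map_surjective (σ := Fin n) pA.toRingHom hpA g₁
  let g := MvPolynomial.map A.val.toRingHom g'
  have hgQ : g ∉ Q := by
    intro hgQ
    refine hg₁ ?_
    rw [← hg', MvPolynomial.map_map,
      show R₁.val.toRingHom.comp pA.toRingHom = π.toRingHom.comp A.val.toRingHom from RingHom.ext fun _ => rfl,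
      ← MvPolynomial.map_map]
    exact Ideal.mem_map_of_mem _ hgQ
  have hgI : MvPolynomial.map ψ.toRingHom g₁ = MvPolynomial.map πI.toRingHom g := by
    rw [← hg', MvPolynomial.map_map, MvPolynomial.map_map]
    congr 1
    congr 1
    refine RingHom.ext fun c => ?_
    simp only [RingHom.coe_comp, Function.comp_apply, AlgHom.toRingHom_eq_coe, RingHom.coe_coe]
    exact AlgHom.liftOfSurjective_apply _ _ _ _ c
  have hflat : PtFlat K₀ RI (Submonoid.powers (MvPolynomial.map πI.toRingHom g)) := by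
    rw [← hgI]
    exact ptFlat_of_witness K₀ ((Subalgebra.fg_iff_finiteType R₁).1 ⟨t, ht⟩) g₁ hwit RI ψ
  let gI := MvPolynomial.map πI.toRingHom g
  let HI := KK K₀ RI
  let Fl := LocalizedModule (Submonoid.powers gI) (V a n RI ⧸ HI)
  haveI : Module.Flat RI Fl := by
    rw [flat_localized_iff (Submonoid.powers gI) (LocalizedModule.mkLinearMap (Submonoid.powers gI) _),
      ← ptFlat_iff K₀ (Submonoid.powers gI) HI.mkQ (Submodule.mkQ_surjective _) (by rw [Submodule.ker_mkQ])]
    exact hflat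
  have hHI : HI = Submodule.span _ (mapV πI.toRingHom '' (G : Set (V a n R))) := by
    refine le_antisymm (Submodule.span_le.2 ?_) (Submodule.span_le.2 ?_)
    · rintro _ ⟨w, hw, rfl⟩
      have h1 : mapV (algebraMap R₀ R) w ∈ Submodule.span (MvPolynomial (Fin n) R) (G : Set (V a n R)) :=
        hKK ▸ mapL_mem_KK K₀ hw
      rw [← mapV_algebraMap πI w]
      exact mapV_mem_span πI.toRingHom h1
    · rintro _ ⟨v, hv, rfl⟩
      have h1 : v ∈ KK K₀ R := hKK.symm ▸ Submodule.subset_span hv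
      have h2 := mapV_mem_span πI.toRingHom h1
      rw [Set.image_image] at h2
      refine Submodule.span_mono ?_ h2
      rintro _ ⟨w, hw, rfl⟩
      exact ⟨w, hw, (mapV_algebraMap πI w).symm⟩
  let H := Submodule.span (MvPolynomial (Fin n) R) (G : Set (V a n R))
  have hstep1 : ∀ w ∈ K, ∃ m : ℕ, g ^ m • w ∈ H ⊔ (I.map C : Ideal (MvPolynomial (Fin n) R)) • K := by
    intro w hw
    choose k hk using fun f : F => hGf f.1 f.2 w hw
    let D : RI →ₗ[RI] F → RI := LinearMap.pi fun f => πI ((f : R) ^ k f) • (LinearMap.id : RI →ₗ[RI] RI)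
    have hD : Function.Injective D := by
      rw [injective_iff_map_eq_zero]
      intro c hc
      obtain ⟨r, rfl⟩ := Ideal.Quotient.mk_surjective c
      refine Ideal.Quotient.eq_zero_iff_mem.2 fun f hf => ?_
      have h1 : πI ((f : R) ^ k ⟨f, hf⟩) * Ideal.Quotient.mk I r = 0 := by simpa [D] using congrFun hc ⟨f, hf⟩
      rw [show πI ((f : R) ^ k ⟨f, hf⟩) = Ideal.Quotient.mk I (f ^ k ⟨f, hf⟩) from rfl, ← map_mul,
        Ideal.Quotient.eq_zero_iff_mem] at h1
      obtain ⟨k', hk'⟩ := h1 f hf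
      exact ⟨k' + k ⟨f, hf⟩, by rw [pow_add, mul_assoc]; exact hk'⟩
    have hinj := Module.Flat.lTensor_preserves_injective_linearMap (M := Fl) D hD
    let x : Fl := LocalizedModule.mkLinearMap (Submonoid.powers gI) _ (Submodule.Quotient.mk (mapV πI.toRingHom w))
    have hrx : ∀ f : F, πI ((f : R) ^ k f) • x = 0 := fun f => by
      show πI ((f : R) ^ k f) • LocalizedModule.mkLinearMap (Submonoid.powers gI) (V a n RI ⧸ HI)
        (Submodule.Quotient.mk (mapV πI.toRingHom w)) = 0
      rw [← LinearMap.map_smul_of_tower, ← Submodule.Quotient.mk_smul, (Submodule.Quotient.mk_eq_zero HI).2, map_zero]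
      have h1 : (f : R) ^ k f • w ∈ H :=
        Submodule.span_mono (Finset.coe_subset.2 ((Finset.subset_biUnion_of_mem Gf f.2).trans Finset.subset_union_right)) (hk f)
      have h2 := mapV_mem_span πI.toRingHom h1
      rw [← hHI, ← C_smul, mapV_smul, MvPolynomial.map_C, C_smul] at h2
      exact h2
    have hx : x ⊗ₜ[RI] (1 : RI) = 0 := by
      refine hinj ?_
      rw [map_zero, LinearMap.lTensor_tmul, pi_eq_sum_univ (D 1), TensorProduct.tmul_sum]
      refine Finset.sum_eq_zero fun q _ => ?_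
      have hDq : D 1 q = πI ((q : R) ^ k q) := by simp [D]
      rw [← TensorProduct.smul_tmul, hDq, hrx, TensorProduct.zero_tmul]
    have hx0 : x = 0 := by simpa using congrArg (TensorProduct.rid RI Fl) hx
    obtain ⟨⟨c, m, hm⟩, hc⟩ :=
      (IsLocalizedModule.eq_zero_iff (Submonoid.powers gI) (LocalizedModule.mkLinearMap _ _)).1 hx0
    refine ⟨m, ?_⟩
    rw [Submonoid.smul_def, ← Submodule.Quotient.mk_smul, Submodule.Quotient.mk_eq_zero] at hc
    obtain rfl : gI ^ m = c := hm
    rw [hHI] at hc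
    have hc' := Submodule.span_mono (R := MvPolynomial (Fin n) RI)
      (Set.image_mono (Submodule.subset_span (R := MvPolynomial (Fin n) R) (s := (G : Set (V a n R))))) hc
    obtain ⟨h, hh, hhw⟩ := mem_image_of_mem_span (g := πI.toRingHom) (Ideal.Quotient.mkₐ_surjective R₀ I) H hc'
    have hv : g ^ m • w - h ∈ K := sub_mem (Submodule.smul_mem _ _ hw) ((Submodule.span_le.2 hGK : H ≤ K) hh)
    have hvI : g ^ m • w - h ∈ CJ a n I := mem_CJ.2 fun i => MvPolynomial.mem_map_C_iff.2 fun d => by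
      have h1 : mapV πI.toRingHom (g ^ m • w - h) = 0 := by
        rw [mapV_sub, mapV_smul, map_pow, hhw, sub_self]
      have h2 : πI ((g ^ m • w - h) i |>.coeff d) = 0 := by
        have h3 := congrArg (fun q : MvPolynomial (Fin n) RI => q.coeff d) (congrFun h1 i)
        simp only [mapV_apply, MvPolynomial.coeff_map, Pi.zero_apply, MvPolynomial.coeff_zero] at h3
        exact h3
      exact Ideal.Quotient.eq_zero_iff_mem.1 h2
    refine Submodule.mem_sup.2 ⟨h, hh, _, mem_smul_of_flat K I hv hvI, add_sub_cancel _ _⟩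
  -- nilpotent iteration
  let S : ℕ → Submodule (MvPolynomial (Fin n) R) (V a n R) := fun j =>
    { carrier := {w | ∃ m : ℕ, g ^ m • w ∈ H ⊔ ((I ^ j).map C : Ideal (MvPolynomial (Fin n) R)) • K}
      add_mem' := by
        rintro w w' ⟨m, hm⟩ ⟨m', hm'⟩
        refine ⟨m + m', ?_⟩
        rw [smul_add, pow_add]
        refine add_mem ?_ ?_
        · rw [mul_comm, mul_smul]; exact Submodule.smul_mem _ _ hm
        · rw [mul_smul]; exact Submodule.smul_mem _ _ hm'
      zero_mem' := ⟨0, by rw [smul_zero]; exact zero_mem _⟩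
      smul_mem' := by
        rintro c w ⟨m, hm⟩
        exact ⟨m, by rw [smul_comm]; exact Submodule.smul_mem _ _ hm⟩ }
  have hS : ∀ j, K ≤ S j := by
    intro j
    induction j with
    | zero => exact fun w hw => ⟨0, Submodule.mem_sup_right (by simpa [Ideal.map_top] using hw)⟩
    | succ j ih =>
      have hle : (I.map C : Ideal (MvPolynomial (Fin n) R)) • K ≤ S (j + 1) := by
        refine Submodule.smul_le.2 fun c hc w hw => ?_
        obtain ⟨m, hm⟩ := ih hw
        refine ⟨m, ?_⟩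
        rw [smul_comm]
        obtain ⟨h, hh, v, hv, hvw⟩ := Submodule.mem_sup.1 hm
        rw [← hvw, smul_add]
        refine add_mem (Submodule.mem_sup_left (H.smul_mem _ hh)) (Submodule.mem_sup_right ?_)
        rw [pow_succ', Ideal.map_mul, Submodule.mul_smul]
        exact Submodule.smul_mem_smul hc hv
      intro w hw
      obtain ⟨m, hm⟩ := hstep1 w hw
      obtain ⟨h, hh, v, hv, hvw⟩ := Submodule.mem_sup.1 hm
      obtain ⟨m', hm'⟩ := hle hv
      refine ⟨m' + m, ?_⟩
      rw [pow_add g, mul_smul, ← hvw, smul_add]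
      exact add_mem (Submodule.mem_sup_left (H.smul_mem _ hh)) hm'
  refine ⟨g, hgQ, G, hGK, fun w hw => ?_⟩
  obtain ⟨m, hm⟩ := hS N hw
  rw [hIN] at hm
  exact ⟨m, by simpa using hm⟩

/-- A flat quotient which is finitely presented over a dense union of basic opens is finitely
presented. -/
theorem fg_of_flat_of_dense (F : Finset R) (hF : ∀ r : R, (∀ f ∈ F, ∃ k : ℕ, f ^ k * r = 0) → r = 0)
    (K : Submodule (MvPolynomial (Fin n) R) (V a n R)) [Module.Flat R (V a n R ⧸ K)]
    (hloc : ∀ f ∈ F, ∃ G : Finset (V a n R), (G : Set (V a n R)) ⊆ K ∧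
      ∀ w ∈ K, ∃ k : ℕ, f ^ k • w ∈ Submodule.span (MvPolynomial (Fin n) R) (G : Set (V a n R))) :
    K.FG := by
  classical
  choose g hg G hGK hG using fun Q : PrimeSpectrum (MvPolynomial (Fin n) R) =>
    exists_fp_nhd_of_dense F hF K hloc Q.asIdeal
  have htop : Ideal.span (Set.range g) = ⊤ := by
    by_contra hne
    obtain ⟨m, hm, hle⟩ := Ideal.exists_le_maximal _ hne
    exact hg ⟨m, hm.isPrime⟩ (hle (Ideal.subset_span ⟨_, rfl⟩))
  obtain ⟨t, ht, hspan⟩ := (Ideal.span_eq_top_iff_finite _).1 htop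
  choose Q hQ using fun x : t => ht x.2
  refine ⟨Finset.univ.biUnion fun x => G (Q x), le_antisymm ?_ fun w hw => ?_⟩
  · refine Submodule.span_le.2 fun v hv => ?_
    obtain ⟨x, -, hx⟩ := Finset.mem_biUnion.1 hv
    exact hGK _ hx
  · refine Submodule.mem_of_span_eq_top_of_smul_pow_mem _ _ hspan w fun x => ?_
    obtain ⟨k, hk⟩ := hG (Q ⟨x, x.2⟩) w hw
    refine ⟨k, ?_⟩
    rw [hQ ⟨x, x.2⟩] at hk
    refine Submodule.span_mono (fun v hv => ?_) hk
    exact Finset.mem_biUnion.2 ⟨⟨x, x.2⟩, Finset.mem_univ _, hv⟩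

end Groth.Agent.FlatValCrit
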