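import Mathlib
import Groth.Agent.FlatModel.Open

/-!
# Flat modules which are locally finitely presented

If the base embeds into finitely many of its local rings, a finite flat module over a polynomial ring
whose localisations at primes of the base are finitely presented is finitely presented.
-/

universe u
set_option autoImplicit false

open TensorProduct

namespace Groth.Agent.FlatValCrit

open Groth.Agent.FlatModel

/-- Finitely many elements of a submodule generate it after localisation, if that is finitely generated. -/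
theorem exists_gens_of_fg_localized {P F N : Type*} [CommRing P] [AddCommGroup F] [Module P F]
    [AddCommGroup N] [Module P N] (S : Type*) [CommRing S] [Algebra P S] (W : Submonoid P) [IsLocalization W S]
    [Module S N] [IsScalarTower P S N] (f : F →ₗ[P] N) [IsLocalizedModule W f] (K : Submodule P F)
    (h : (K.localized' S W f).FG) :
    ∃ G : Finset F, (G : Set F) ⊆ K ∧ ∀ w ∈ K, ∃ s ∈ W, s • w ∈ Submodule.span P (G : Set F) := by
  classical
  rw [Submodule.localized'_eq_span, Submodule.fg_span_iff_fg_span_finset_subset] at h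
  obtain ⟨t, ht, hspan⟩ := h
  choose g hgK hg using fun x : t => ht x.2
  refine ⟨Finset.univ.image g, ?_, fun w hw => ?_⟩
  · intro v hv
    obtain ⟨x, -, rfl⟩ := Finset.mem_image.1 hv
    exact hgK x
  · have hle : (t : Set N) ⊆ f '' (↑(Finset.univ.image g) : Set F) := fun x hx =>
      ⟨g ⟨x, hx⟩, Finset.mem_image_of_mem g (Finset.mem_univ _), hg _⟩
    have h1 : f w ∈ (Submodule.span P (↑(Finset.univ.image g) : Set F)).localized' S W f := by
      rw [Submodule.localized'_span]
      exact Submodule.span_mono hle (hspan.le (Submodule.subset_span ⟨w, hw, rfl⟩))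
    obtain ⟨v, hv, s, hvs⟩ := (Submodule.mem_localized' S W f _ _).1 h1
    rw [IsLocalizedModule.mk'_eq_iff, Submonoid.smul_def, ← map_smul] at hvs
    obtain ⟨c, hc⟩ := (IsLocalizedModule.eq_iff_exists W f).1 hvs
    refine ⟨c * s, mul_mem c.2 s.2, ?_⟩
    rw [mul_smul]
    simp only [Submonoid.smul_def] at hc
    rw [← hc]
    exact Submodule.smul_mem _ _ hv

/-- Flatness of localisations through a surjection whose kernel is killed by the submonoid. -/
theorem flat_localized_iff_of_surjective {R P M' M : Type u} [CommRing R] [CommRing P] [Algebra R P]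
    [AddCommGroup M'] [Module R M'] [Module P M'] [IsScalarTower R P M']
    [AddCommGroup M] [Module R M] [Module P M] [IsScalarTower R P M]
    (f : M' →ₗ[P] M) (hf : Function.Surjective f) (W : Submonoid P)
    (hker : ∀ x, f x = 0 → ∃ s ∈ W, s • x = 0) :
    Module.Flat R (LocalizedModule W M') ↔ Module.Flat R (LocalizedModule W M) := by
  let g := LocalizedModule.mkLinearMap W M ∘ₗ f
  haveI : IsLocalizedModule W g :=
    { map_units := IsLocalizedModule.map_units (LocalizedModule.mkLinearMap W M)
      surj := fun y => by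
        obtain ⟨⟨m, s⟩, hms⟩ := IsLocalizedModule.surj W (LocalizedModule.mkLinearMap W M) y
        obtain ⟨x, rfl⟩ := hf m
        exact ⟨⟨x, s⟩, hms⟩
      exists_of_eq := fun {x y} hxy => by
        obtain ⟨c, hc⟩ := IsLocalizedModule.exists_of_eq (S := W) (f := LocalizedModule.mkLinearMap W M) hxy
        rw [Submonoid.smul_def, Submonoid.smul_def, ← map_smul, ← map_smul, ← sub_eq_zero, ← map_sub] at hc
        obtain ⟨d, hd, hdc⟩ := hker _ hc
        refine ⟨⟨d, hd⟩ * c, ?_⟩
        rw [smul_sub, sub_eq_zero] at hdc
        simp only [Submonoid.smul_def, Submonoid.coe_mul, mul_smul]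
        exact hdc }
  rw [flat_localized_iff W (LocalizedModule.mkLinearMap W M')]
  exact (flat_localized_iff W g).symm

/-- A submodule of a finitely presented module over a finitely presented algebra, with flat quotient,
which is finitely generated locally on the base, is finitely generated. -/
theorem fg_of_flat_of_locally_fg {R P F : Type u} [CommRing R] [CommRing P] [Algebra R P]
    [Algebra.FinitePresentation R P] [AddCommGroup F] [Module P F] [Module R F] [IsScalarTower R P F]
    [Module.FinitePresentation P F] (K : Submodule P F) [Module.Flat R (F ⧸ K)]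
    (s : Finset (PrimeSpectrum R))
    (hs : Function.Injective fun r : R => fun p : s => algebraMap R (Localization.AtPrime p.1.asIdeal) r)
    (hloc : ∀ (p : Ideal R) [p.IsPrime], ∃ G : Finset F, (G : Set F) ⊆ K ∧
      ∀ w ∈ K, ∃ r ∉ p, r • w ∈ Submodule.span P (G : Set F)) :
    K.FG := by
  classical
  choose Gs hGsK hGs using fun p : PrimeSpectrum R => hloc p.asIdeal
  have key : ∀ Q : PrimeSpectrum P, ∃ g ∉ Q.asIdeal, ∃ G : Finset F, (G : Set F) ⊆ K ∧
      ∀ w ∈ K, ∃ k : ℕ, g ^ k • w ∈ Submodule.span P (G : Set F) := by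
    intro Q
    let p : PrimeSpectrum R := PrimeSpectrum.comap (algebraMap R P) Q
    let G := Gs p ∪ s.biUnion Gs
    have hGK : (G : Set F) ⊆ K := by
      intro v hv
      rcases Finset.mem_union.1 hv with h | h
      · exact hGsK p h
      · obtain ⟨q, -, hq⟩ := Finset.mem_biUnion.1 h
        exact hGsK q hq
    let H := Submodule.span P (G : Set F)
    haveI : Module.FinitePresentation P (F ⧸ H) :=
      Module.finitePresentation_of_surjective H.mkQ H.mkQ_surjective (by rw [Submodule.ker_mkQ]; exact Submodule.fg_span G.finite_toSet)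
    have hflat : Module.Flat R (LocalizedModule Q.asIdeal.primeCompl (F ⧸ H)) := by
      rw [flat_localized_iff_of_surjective (Submodule.mapQ H K LinearMap.id (Submodule.span_le.2 hGK))
        (fun y => by obtain ⟨v, rfl⟩ := Submodule.Quotient.mk_surjective _ y; exact ⟨Submodule.Quotient.mk v, rfl⟩)]
      · refine (flat_localized_iff Q.asIdeal.primeCompl (LocalizedModule.mkLinearMap Q.asIdeal.primeCompl (F ⧸ K))).2 fun J y hy => ⟨1, one_mem _, ?_⟩
        rw [Module.Flat.iff_lTensor_injective'.1 ‹_› J (hy.trans (map_zero _).symm), smul_zero]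
      · intro x hx
        obtain ⟨v, rfl⟩ := Submodule.Quotient.mk_surjective _ x
        obtain ⟨r, hr, hrv⟩ := hGs p v ((Submodule.Quotient.mk_eq_zero K).1 hx)
        refine ⟨algebraMap R P r, hr, ?_⟩
        rw [← Submodule.Quotient.mk_smul, Submodule.Quotient.mk_eq_zero, algebraMap_smul]
        exact Submodule.span_mono (Finset.coe_subset.2 Finset.subset_union_left) hrv
    obtain ⟨g, hg, hgflat⟩ := exists_flat_nhd (R := R) (F ⧸ H) Q.asIdeal hflat
    refine ⟨g, hg, G, hGK, fun w hw => ?_⟩
    choose r hr hrw using fun q : s => hGs q.1 w hw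
    haveI := hgflat (Submonoid.powers g) (Submonoid.mem_powers g)
    let N := LocalizedModule (Submonoid.powers g) (F ⧸ H)
    let D : R →ₗ[R] s → R := LinearMap.pi fun q => r q • (LinearMap.id : R →ₗ[R] R)
    have hD : Function.Injective D := by
      rw [injective_iff_map_eq_zero]
      intro c hc
      refine hs (funext fun q => ?_)
      simp only [map_zero]
      rw [IsLocalization.map_eq_zero_iff q.1.asIdeal.primeCompl]
      exact ⟨⟨r q, hr q⟩, by simpa [D] using congrFun hc q⟩
    have hinj := Module.Flat.lTensor_preserves_injective_linearMap (M := N) D hD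
    let x : N := LocalizedModule.mkLinearMap _ _ (Submodule.Quotient.mk w)
    have hrx : ∀ q, r q • x = 0 := fun q => by
      show r q • LocalizedModule.mkLinearMap (Submonoid.powers g) (F ⧸ H) (Submodule.Quotient.mk w) = 0
      rw [← LinearMap.map_smul_of_tower, ← Submodule.Quotient.mk_smul,
        (Submodule.Quotient.mk_eq_zero H).2 (Submodule.span_mono (Finset.coe_subset.2
          (fun v hv => Finset.mem_union_right _ (Finset.mem_biUnion.2 ⟨q.1, q.2, hv⟩))) (hrw q)), map_zero]
    have hx : x ⊗ₜ[R] (1 : R) = 0 := by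
      refine hinj ?_
      rw [map_zero, LinearMap.lTensor_tmul, pi_eq_sum_univ (D 1), TensorProduct.tmul_sum]
      refine Finset.sum_eq_zero fun q _ => ?_
      have hDq : D 1 q = r q := by simp [D]
      rw [← TensorProduct.smul_tmul, hDq, hrx, TensorProduct.zero_tmul]
    have hx0 : x = 0 := by simpa using congrArg (TensorProduct.rid R N) hx
    obtain ⟨⟨c, k, hk⟩, hc⟩ := (IsLocalizedModule.eq_zero_iff (Submonoid.powers g) (LocalizedModule.mkLinearMap _ _)).1 hx0
    refine ⟨k, ?_⟩
    rw [Submonoid.smul_def, ← Submodule.Quotient.mk_smul, Submodule.Quotient.mk_eq_zero] at hc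
    rw [show g ^ k = c from hk]
    exact hc
  choose g hg G hGK hG using key
  have htop : Ideal.span (Set.range g) = ⊤ := by
    by_contra hne
    obtain ⟨m, hm, hle⟩ := Ideal.exists_le_maximal _ hne
    exact hg ⟨m, hm.isPrime⟩ (hle (Ideal.subset_span ⟨_, rfl⟩))
  obtain ⟨t, ht, hspan⟩ := (Ideal.span_eq_top_iff_finite _).1 htop
  choose Q hQ using fun x : t => ht x.2
  refine ⟨Finset.univ.biUnion fun x => G (Q x), le_antisymm ?_ fun w hw => ?_⟩
  · refine Submodule.span_le.2 fun v hv => ?_
    obtain ⟨x, -, hx⟩ := Finset.mem_biUnion.1 hv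
    exact hGK _ hx
  · refine Submodule.mem_of_span_eq_top_of_smul_pow_mem _ _ hspan w fun x => ?_
    obtain ⟨k, hk⟩ := hG (Q ⟨x, x.2⟩) w hw
    refine ⟨k, ?_⟩
    rw [hQ ⟨x, x.2⟩] at hk
    refine Submodule.span_mono (fun v hv => ?_) hk
    exact Finset.mem_biUnion.2 ⟨⟨x, x.2⟩, Finset.mem_univ _, hv⟩

end Groth.Agent.FlatValCrit
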