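import Mathlib
import Groth.Agent.FlatValCrit.Dense
import Groth.Agent.FlatValCrit.LocFP

/-!
# Finite presentation from a dense union of basic opens, for algebras and modules
-/

universe u
set_option autoImplicit false

namespace Groth.Agent.FlatValCrit

open MvPolynomial Groth.Agent.FlatModel

/-- A flat algebra of finite type which is finitely presented over a dense union of basic opens of the
base is finitely presented. -/
theorem finitePresentation_algebra_of_dense {R S : Type u} [CommRing R] [CommRing S] [Algebra R S]
    [Algebra.FiniteType R S] [Module.Flat R S] (F : Finset R)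
    (hF : ∀ r : R, (∀ f ∈ F, ∃ k : ℕ, f ^ k * r = 0) → r = 0)
    (hloc : ∀ f ∈ F, Algebra.FinitePresentation (Localization.Away f)
      (Localization (Algebra.algebraMapSubmonoid S (Submonoid.powers f)))) :
    Algebra.FinitePresentation R S := by
  classical
  obtain ⟨n, φ, hφ⟩ := Algebra.FiniteType.iff_quotient_mvPolynomial''.1 ‹Algebra.FiniteType R S›
  let := φ.toRingHom.toAlgebra
  have : IsScalarTower R (MvPolynomial (Fin n) R) S := IsScalarTower.of_algebraMap_eq fun r => (φ.commutes r).symm
  let π : V 1 n R →ₗ[MvPolynomial (Fin n) R] S :=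
    (Algebra.linearMap (MvPolynomial (Fin n) R) S) ∘ₗ LinearMap.proj 0
  have hπ : Function.Surjective π := fun y => by
    obtain ⟨p, rfl⟩ := hφ y
    exact ⟨Pi.single 0 p, by simp [π]; rfl⟩
  have : Module.Flat R (V 1 n R ⧸ LinearMap.ker π) :=
    Module.Flat.of_linearEquiv ((LinearMap.quotKerEquivOfSurjective π hπ).restrictScalars R)
  refine Algebra.FinitePresentation.of_surjective hφ ?_
  have hK : (LinearMap.ker π).FG := by
    refine fg_of_flat_of_dense F hF (LinearMap.ker π) fun f hf => ?_
    let P := MvPolynomial (Fin n) R
    let Rp := Localization.Away f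
    let Pp := MvPolynomial (Fin n) Rp
    let Sp := Localization (Algebra.algebraMapSubmonoid S (Submonoid.powers f))
    let : Algebra P Pp := MvPolynomial.algebraMvPolynomial
    have : IsScalarTower R P Pp := IsScalarTower.of_algebraMap_eq fun r => by
      show MvPolynomial.C (algebraMap R Rp r) = MvPolynomial.map (algebraMap R Rp) (MvPolynomial.C r)
      rw [MvPolynomial.map_C]
    have : IsLocalization (Algebra.algebraMapSubmonoid P (Submonoid.powers f)) Pp :=
      MvPolynomial.isLocalization (Submonoid.powers f) Rp
    let ψ : Pp →ₐ[Rp] Sp := IsLocalization.mapₐ (Submonoid.powers f) Rp Pp Sp φ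
    have := hloc f hf
    let I : Submodule P P := RingHom.ker φ
    have hfg : (I.localized' Pp (Algebra.algebraMapSubmonoid P (Submonoid.powers f)) (Algebra.linearMap P Pp)).FG := by
      rw [Submodule.localized'_eq_span]
      have h := Algebra.FinitePresentation.ker_fG_of_surjective ψ
        (IsLocalization.mapₐ_surjective_of_surjective (Submonoid.powers f) Rp Pp Sp φ hφ)
      have hk : RingHom.ker ψ.toRingHom = (RingHom.ker φ).map (algebraMap P Pp) :=
        IsLocalization.ker_map (T := Algebra.algebraMapSubmonoid S (Submonoid.powers f)) Sp φ.toRingHom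
          (Algebra.algebraMapSubmonoid_map_eq _ φ)
      rw [hk] at h
      exact h
    obtain ⟨G, hG, hG'⟩ := exists_gens_of_fg_localized Pp (Algebra.algebraMapSubmonoid P (Submonoid.powers f))
      (Algebra.linearMap P Pp) I hfg
    let e : P →ₗ[P] V 1 n R := LinearMap.single P (fun _ : Fin 1 => P) 0
    refine ⟨G.image e, ?_, fun w hw => ?_⟩
    · intro v hv
      obtain ⟨p, hp, rfl⟩ := Finset.mem_image.1 hv
      have hp' : φ p = 0 := hG hp
      rw [SetLike.mem_coe, LinearMap.mem_ker]
      simp only [π, e, LinearMap.comp_apply, LinearMap.proj_apply, LinearMap.single_apply, Pi.single_eq_same]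
      exact hp'
    · have hw' : w 0 ∈ I := LinearMap.mem_ker.1 hw
      obtain ⟨_, ⟨_, ⟨k, rfl⟩, rfl⟩, hk⟩ := hG' (w 0) hw'
      refine ⟨k, ?_⟩
      have h1 : f ^ k • w = e (algebraMap R P (f ^ k) • w 0) := funext fun i => by
        fin_cases i
        simp [e, P, Algebra.smul_def, MvPolynomial.algebraMap_eq]
      rw [h1, Finset.coe_image, Submodule.span_image]
      exact Submodule.mem_map_of_mem hk
  have heq : RingHom.ker φ = (LinearMap.ker π).map (LinearMap.proj 0) := by
    ext p
    constructor
    · intro hp
      refine ⟨Pi.single 0 p, ?_, ?_⟩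
      · rw [SetLike.mem_coe, LinearMap.mem_ker]
        simp only [π, LinearMap.comp_apply, LinearMap.proj_apply, Pi.single_eq_same]
        exact hp
      · simp only [LinearMap.proj_apply, Pi.single_eq_same]
    · rintro ⟨w, hw, rfl⟩
      exact LinearMap.mem_ker.1 hw
  exact heq.symm ▸ hK.map _

/-- A finite flat module over a finitely presented algebra which is finitely presented over a dense
union of basic opens of the base is finitely presented. -/
theorem finitePresentation_module_of_dense {A B : Type u} [CommRing A] [CommRing B] [Algebra A B]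
    [Algebra.FinitePresentation A B] (N : Type u) [AddCommGroup N] [Module B N] [Module A N] [IsScalarTower A B N]
    [Module.Finite B N] [Module.Flat A N] (F : Finset A)
    (hF : ∀ r : A, (∀ f ∈ F, ∃ k : ℕ, f ^ k * r = 0) → r = 0)
    (hloc : ∀ f ∈ F, Module.FinitePresentation (Localization.Away (algebraMap A B f))
      (LocalizedModule (Submonoid.powers (algebraMap A B f)) N)) :
    Module.FinitePresentation B N := by
  classical
  obtain ⟨n, φ, hφ, hkerφ⟩ := Algebra.FinitePresentation.out (R := A) (A := B)
  let := φ.toRingHom.toAlgebra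
  let := Module.compHom N φ.toRingHom
  have : IsScalarTower (MvPolynomial (Fin n) A) B N := ⟨fun p s m => mul_smul (φ p) s m⟩
  have : IsScalarTower A (MvPolynomial (Fin n) A) N := ⟨fun r p m => by
    show φ (r • p) • m = r • φ p • m
    rw [map_smul, smul_assoc]⟩
  obtain ⟨a, πB, hπB⟩ := Module.Finite.exists_fin' B N
  let j : V a n A →ₗ[MvPolynomial (Fin n) A] Fin a → B :=
    (Algebra.linearMap (MvPolynomial (Fin n) A) B).compLeft (Fin a)
  have hj : Function.Surjective j := fun y => by
    choose w hw using fun i => hφ (y i)
    exact ⟨w, funext hw⟩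
  let π : V a n A →ₗ[MvPolynomial (Fin n) A] N := (πB.restrictScalars (MvPolynomial (Fin n) A)) ∘ₗ j
  have hπ : Function.Surjective π := hπB.comp hj
  have : Module.Flat A (V a n A ⧸ LinearMap.ker π) :=
    Module.Flat.of_linearEquiv ((LinearMap.quotKerEquivOfSurjective π hπ).restrictScalars A)
  obtain ⟨t, ht⟩ := hkerφ
  refine Module.finitePresentation_of_surjective πB hπB ?_
  have hK : (LinearMap.ker π).FG := by
    refine fg_of_flat_of_dense F hF (LinearMap.ker π) fun f hf => ?_
    let W := Submonoid.powers (algebraMap A B f)
    let lf := LocalizedModule.mkLinearMap W (Fin a → B)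
    let lg := LocalizedModule.mkLinearMap W N
    have := hloc f hf
    have : Module.Finite (Localization W) (LocalizedModule W (Fin a → B)) := Module.Finite.of_isLocalizedModule W lf
    have hfg : ((LinearMap.ker πB).localized' (Localization W) W lf).FG := by
      rw [LinearMap.localized'_ker_eq_ker_localizedMap (Localization W) W lf lg πB]
      exact Module.FinitePresentation.fg_ker _ (IsLocalizedModule.map_surjective W lf lg πB hπB)
    obtain ⟨G, hG, hG'⟩ := exists_gens_of_fg_localized (Localization W) W lf (LinearMap.ker πB) hfg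
    choose l hl using hj
    refine ⟨G.image l ∪ Finset.univ.biUnion fun i => t.image (Pi.single i), ?_, fun w hw => ?_⟩
    · intro v hv
      rw [SetLike.mem_coe, LinearMap.mem_ker]
      rcases Finset.mem_union.1 hv with h | h
      · obtain ⟨y, hy, rfl⟩ := Finset.mem_image.1 h
        show πB (j (l y)) = 0
        rw [hl]
        exact hG hy
      · obtain ⟨i, -, hi⟩ := Finset.mem_biUnion.1 h
        obtain ⟨p, hp, rfl⟩ := Finset.mem_image.1 hi
        have hp0 : φ p = 0 := ht.le (Submodule.subset_span hp)
        show πB (j (Pi.single i p)) = 0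
        rw [show j (Pi.single i p) = 0 from funext fun x => by
          by_cases hx : x = i
          · subst hx; show algebraMap (MvPolynomial (Fin n) A) B (Pi.single (M := fun _ => MvPolynomial (Fin n) A) x p x) = 0; rw [Pi.single_eq_same]; exact hp0
          · simp [j, hx], map_zero]
    · set G' := G.image l ∪ Finset.univ.biUnion fun i => t.image (Pi.single i) with hG'def
      let H := Submodule.span (MvPolynomial (Fin n) A) (G' : Set (V a n A))
      have hker : LinearMap.ker j ≤ H := by
        intro v hv
        have hv' : ∀ i, v i ∈ RingHom.ker φ := fun i => congrFun (LinearMap.mem_ker.1 hv) i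
        rw [← Finset.univ_sum_single v]
        refine sum_mem fun i _ => ?_
        have h1 : v i ∈ Submodule.span (MvPolynomial (Fin n) A) (t : Set (MvPolynomial (Fin n) A)) := ht.ge (hv' i)
        have h2 := Submodule.mem_map_of_mem (f := LinearMap.single (MvPolynomial (Fin n) A) (fun _ : Fin a => MvPolynomial (Fin n) A) i) h1
        rw [Submodule.map_span] at h2
        refine Submodule.span_mono ?_ h2
        rintro _ ⟨p, hp, rfl⟩
        exact Finset.mem_union_right _ (Finset.mem_biUnion.2 ⟨i, Finset.mem_univ _, Finset.mem_image_of_mem _ hp⟩)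
      have hspan : ∀ y ∈ Submodule.span B (G : Set (Fin a → B)), ∃ v ∈ H, j v = y := by
        intro y hy
        induction hy using Submodule.span_induction with
        | mem y hy =>
          exact ⟨l y, Submodule.subset_span (Finset.mem_union_left _ (Finset.mem_image_of_mem l hy)), hl y⟩
        | zero => exact ⟨0, zero_mem _, map_zero _⟩
        | add y z _ _ hy hz =>
          obtain ⟨v, hv, rfl⟩ := hy
          obtain ⟨v', hv', rfl⟩ := hz
          exact ⟨v + v', add_mem hv hv', map_add _ _ _⟩
        | smul c y _ hy =>
          obtain ⟨v, hv, rfl⟩ := hy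
          obtain ⟨p, rfl⟩ := hφ c
          exact ⟨p • v, H.smul_mem _ hv, map_smul _ _ _⟩
      obtain ⟨_, ⟨k, rfl⟩, hk⟩ := hG' (j w) hw
      obtain ⟨v, hv, hvw⟩ := hspan _ hk
      refine ⟨k, ?_⟩
      have h1 : j (f ^ k • w - v) = 0 := by
        rw [map_sub, hvw, LinearMap.map_smul_of_tower, sub_eq_zero]
        show f ^ k • j w = (algebraMap A B f) ^ k • j w
        rw [← map_pow, algebraMap_smul]
      have := add_mem (hker (LinearMap.mem_ker.2 h1)) hv
      rwa [sub_add_cancel] at this
  obtain ⟨s, hs⟩ := hK
  refine ⟨s.image j, le_antisymm ?_ fun y hy => ?_⟩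
  · rw [Submodule.span_le, Finset.coe_image]
    rintro _ ⟨v, hv, rfl⟩
    exact (hs.le (Submodule.subset_span hv) : _)
  · obtain ⟨w, rfl⟩ := hj y
    have h1 : j w ∈ (Submodule.span (MvPolynomial (Fin n) A) (s : Set (V a n A))).map j :=
      Submodule.mem_map_of_mem (hs.ge hy)
    rw [Submodule.map_span] at h1
    rw [Finset.coe_image]
    exact Submodule.span_le_restrictScalars (MvPolynomial (Fin n) A) B _ h1

end Groth.Agent.FlatValCrit
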